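import Mathlib

/-!
# Arithmetic of degrees `2^i` and `q = 2^i ± 1`
-/

set_option autoImplicit false

namespace Cfsg.Agent.NineTwoQ

theorem not_dvd_between {M x : ℤ} (k : ℤ) (hM : 0 < M) (h1 : k * M < x) (h2 : x < (k + 1) * M) :
    ¬ M ∣ x := by
  rintro ⟨t, rfl⟩
  have a1 : k < t := lt_of_mul_lt_mul_right (by linarith) hM.le
  have a2 : t < k + 1 := lt_of_mul_lt_mul_right (by linarith) hM.le
  omega

theorem geom_sum_eq_one_or {x : ℤ} (hx : Odd x) {k i : ℕ} (hk : Odd k)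
    (h : x ^ k - 1 ∣ (2 : ℤ) ^ i) : x ^ k - 1 = x - 1 ∨ x ^ k - 1 = -(x - 1) := by
  set S := ∑ j ∈ Finset.range k, x ^ j with hS
  have h1 : S * (x - 1) = x ^ k - 1 := geom_sum_mul x k
  have h2 : (S : ZMod 2) = 1 := by
    have hx2 : (x : ZMod 2) = 1 := by
      obtain ⟨c, rfl⟩ := hx
      push_cast
      rw [show (2 : ZMod 2) = 0 from rfl, zero_mul, zero_add]
    rw [hS]
    push_cast
    rw [hx2]
    simp only [one_pow, Finset.sum_const, Finset.card_range, nsmul_eq_mul, mul_one]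
    obtain ⟨c, rfl⟩ := hk
    push_cast
    rw [show (2 : ZMod 2) = 0 from rfl, zero_mul, zero_add]
  have h3 : S ∣ (2 : ℤ) ^ i := (Dvd.intro _ h1).trans h
  have h4 : S.natAbs ∣ 2 ^ i := by
    have := Int.natAbs_dvd_natAbs.2 h3
    rwa [Int.natAbs_pow] at this
  obtain ⟨l, -, hl⟩ := (Nat.dvd_prime_pow Nat.prime_two).1 h4
  rcases Nat.eq_zero_or_pos l with rfl | hl0
  · rw [pow_zero] at hl
    rcases Int.natAbs_eq S with e | e <;> rw [hl] at e <;> rw [e] at h1 <;> push_cast at h1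
    · left; linarith
    · right; linarith
  · exfalso
    have h5 : (2 : ℤ) ∣ S := by
      rw [← Int.natAbs_dvd_natAbs, hl]
      exact dvd_pow_self 2 hl0.ne'
    have h6 := (ZMod.intCast_zmod_eq_zero_iff_dvd S 2).2 (by exact_mod_cast h5)
    rw [h2] at h6
    exact one_ne_zero h6

/-- A prime power next to a power of two is a prime, apart from `9`. -/
theorem exponent_eq_one {q k i : ℕ} (hq : q.Prime) (hq2 : q ≠ 2) (hq3 : q ≠ 3) (hk : 1 ≤ k)
    (h : q ^ k = 2 ^ i + 1 ∨ q ^ k + 1 = 2 ^ i) : k = 1 := by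
  have hq5 : 5 ≤ q := by
    have := hq.two_le
    rcases lt_or_ge q 5 with h1 | h1
    · interval_cases q <;> first | omega | exact absurd hq (by decide)
    · exact h1
  have hodd : q % 2 = 1 := (hq.eq_two_or_odd).resolve_left hq2
  have hinj : ∀ {m : ℕ}, q ^ m = q → m = 1 := fun {m} hm =>
    Nat.pow_right_injective hq.two_le (show q ^ m = q ^ 1 by rw [pow_one]; exact hm)
  rcases Nat.even_or_odd k with ⟨m, rfl⟩ | hko
  · exfalso
    have hm : 1 ≤ m := by omega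
    have hqm : 5 ≤ q ^ m := hq5.trans (Nat.le_self_pow (by omega) q)
    have hqmo : q ^ m % 2 = 1 := by rw [Nat.pow_mod, hodd, one_pow, Nat.one_mod]
    rw [pow_add] at h
    generalize q ^ m = s at h hqm hqmo
    rcases h with h | h
    · obtain ⟨d, rfl⟩ : ∃ d, s = d + 1 := ⟨s - 1, by omega⟩
      have h1 : d * (d + 2) = 2 ^ i := by nlinarith
      obtain ⟨u, -, hu⟩ := (Nat.dvd_prime_pow Nat.prime_two).1 (Dvd.intro _ h1)
      obtain ⟨v, -, hv⟩ := (Nat.dvd_prime_pow Nat.prime_two).1 (Dvd.intro_left _ h1)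
      rcases lt_or_ge u 2 with h2 | h2
      · interval_cases u <;> omega
      rcases lt_or_ge v 2 with h3 | h3
      · interval_cases v <;> omega
      obtain ⟨u', rfl⟩ : ∃ u', u = u' + 2 := ⟨u - 2, by omega⟩
      obtain ⟨v', rfl⟩ : ∃ v', v = v' + 2 := ⟨v - 2, by omega⟩
      rw [pow_succ, pow_succ] at hu hv
      omega
    · obtain ⟨c, rfl⟩ : ∃ c, s = 2 * c + 1 := ⟨s / 2, by omega⟩
      have h1 : 4 * (c * c + c) + 2 = 2 ^ i := by nlinarith
      rcases lt_or_ge i 2 with h2 | h2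
      · interval_cases i <;> omega
      obtain ⟨i', rfl⟩ : ∃ i', i = i' + 2 := ⟨i - 2, by omega⟩
      rw [pow_succ, pow_succ] at h1
      omega
  · have hqk : q ≤ q ^ k := Nat.le_self_pow (by omega) q
    have hqo : Odd (q : ℤ) := by exact_mod_cast Nat.odd_iff.2 hodd
    rcases h with h | h
    · have h1 : (q : ℤ) ^ k - 1 = 2 ^ i := by
        have : ((q ^ k : ℕ) : ℤ) = ((2 ^ i + 1 : ℕ) : ℤ) := by rw [h]
        push_cast at this
        linarith
      rcases geom_sum_eq_one_or hqo hko (by rw [h1]) with e | e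
      · exact hinj (by exact_mod_cast (show ((q : ℤ)) ^ k = q by linarith))
      · have : ((q ^ k : ℕ) : ℤ) + q = 2 := by push_cast; linarith
        omega
    · have h1 : (-(q : ℤ)) ^ k - 1 = -2 ^ i := by
        have : ((q ^ k + 1 : ℕ) : ℤ) = ((2 ^ i : ℕ) : ℤ) := by rw [h]
        push_cast at this
        rw [hko.neg_pow]
        linarith
      rcases geom_sum_eq_one_or hqo.neg hko (by rw [h1]; exact neg_dvd.2 dvd_rfl) with e | e
      · rw [hko.neg_pow] at e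
        exact hinj (by exact_mod_cast (show ((q : ℤ)) ^ k = q by linarith))
      · rw [hko.neg_pow] at e
        have : ((q ^ k : ℕ) : ℤ) + q = -2 := by push_cast; linarith
        omega

/-- Two consecutive numbers whose prime divisors are `2` and `q`. -/
theorem consecutive {q a b d : ℕ} (hq : q.Prime) (hq2 : q ≠ 2) (hq3 : q ≠ 3) (hd : 1 < d)
    (h1 : d ∣ 2 ^ a * q ^ b) (h2 : d + 1 ∣ 2 ^ a * q ^ b) :
    ∃ i, (q = 2 ^ i + 1 ∧ d = 2 ^ i) ∨ (q + 1 = 2 ^ i ∧ d = q) := by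
  have hodd : ∀ n, n ∣ 2 ^ a * q ^ b → n % 2 = 1 → ∃ k, n = q ^ k := fun n hn ho => by
    obtain ⟨k, -, hk⟩ := (Nat.dvd_prime_pow hq).1
      ((Nat.Coprime.pow_right a (Nat.coprime_two_right.2 (Nat.odd_iff.2 ho))).dvd_of_dvd_mul_left hn)
    exact ⟨k, hk⟩
  have htwo : ∀ n, n ∣ 2 ^ a * q ^ b → ¬ q ∣ n → ∃ i, n = 2 ^ i := fun n hn ho => by
    obtain ⟨k, -, hk⟩ := (Nat.dvd_prime_pow Nat.prime_two).1
      ((Nat.Coprime.pow_right b (hq.coprime_iff_not_dvd.2 ho).symm).dvd_of_dvd_mul_right hn)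
    exact ⟨k, hk⟩
  rcases Nat.mod_two_eq_zero_or_one d with hev | hod
  · obtain ⟨k, hk⟩ := hodd _ h2 (by omega)
    have hk1 : 1 ≤ k := Nat.pos_of_ne_zero fun h => by rw [h, pow_zero] at hk; omega
    have hqd : q ∣ d + 1 := hk ▸ dvd_pow_self q (by omega)
    obtain ⟨i, hi⟩ := htwo d h1 fun hq' => hq.ne_one
      (Nat.dvd_one.1 ((Nat.dvd_add_right hq').1 hqd))
    have := exponent_eq_one hq hq2 hq3 hk1 (i := i) (Or.inl (by omega))
    rw [this, pow_one] at hk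
    exact ⟨i, Or.inl ⟨by omega, hi⟩⟩
  · obtain ⟨k, hk⟩ := hodd _ h1 hod
    have hk1 : 1 ≤ k := Nat.pos_of_ne_zero fun h => by rw [h, pow_zero] at hk; omega
    have hqd : q ∣ d := hk ▸ dvd_pow_self q (by omega)
    obtain ⟨i, hi⟩ := htwo (d + 1) h2 fun hq' => hq.ne_one
      (Nat.dvd_one.1 ((Nat.dvd_add_right hqd).1 hq'))
    have := exponent_eq_one hq hq2 hq3 hk1 (i := i) (Or.inr (by omega))
    rw [this, pow_one] at hk
    exact ⟨i, Or.inr ⟨by omega, hk⟩⟩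

theorem dvd_pow_sub_pow_mersenne (i x : ℕ) :
    (2 : ℤ) ^ i - 1 ∣ 2 ^ x - 2 ^ (x % i) := by
  have h1 : (2 : ℤ) ^ x = 2 ^ (x % i) * ((2 : ℤ) ^ i) ^ (x / i) := by
    rw [← pow_mul, ← pow_add, Nat.mod_add_div]
  rw [h1, show (2 : ℤ) ^ (x % i) * ((2 : ℤ) ^ i) ^ (x / i) - 2 ^ (x % i) =
    2 ^ (x % i) * (((2 : ℤ) ^ i) ^ (x / i) - 1) by ring]
  exact (sub_one_dvd_pow_sub_one _ _).mul_left _

theorem mersenne_pos {i : ℕ} (hi : 1 ≤ i) : (0 : ℤ) < 2 ^ i - 1 := by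
  have : (2 : ℤ) ^ 1 ≤ 2 ^ i := pow_le_pow_right₀ (by norm_num) hi
  linarith

theorem mersenne_coeff {i : ℕ} (x : ℕ) {c s : ℤ}
    (h : (2 : ℤ) ^ i - 1 ∣ c * 2 ^ x - s) : (2 : ℤ) ^ i - 1 ∣ c * 2 ^ (x % i) - s := by
  have h2 := dvd_sub h ((dvd_pow_sub_pow_mersenne i x).mul_left c)
  rw [show c * 2 ^ (x % i) - s = c * 2 ^ x - s - c * (2 ^ x - 2 ^ (x % i)) by ring]
  exact h2

theorem mersenne_three {i : ℕ} (hi : 5 ≤ i) (x : ℕ) {s : ℤ} (hs : s = 1 ∨ s = -1) :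
    ¬ ((2 : ℤ) ^ i - 1 ∣ 3 * 2 ^ x - s) := by
  intro h
  replace h := mersenne_coeff x h
  have hw : x % i < i := Nat.mod_lt _ (by omega)
  generalize x % i = w at h hw
  have hM := mersenne_pos (show 1 ≤ i by omega)
  have h32 : (32 : ℤ) ≤ 2 ^ i := by
    have : (2 : ℤ) ^ 5 ≤ 2 ^ i := pow_le_pow_right₀ (by norm_num) hi
    linarith
  have h1 : (1 : ℤ) ≤ 2 ^ w := one_le_pow₀ (by norm_num)
  rcases Nat.lt_or_ge (w + 1) i with h' | h'
  · have h2 : (2 : ℤ) ^ w * 4 ≤ 2 ^ i := by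
      rw [show (4 : ℤ) = 2 ^ 2 by norm_num, ← pow_add]
      exact pow_le_pow_right₀ (by norm_num) (by omega)
    exact not_dvd_between 0 hM (by rcases hs with rfl | rfl <;> linarith)
      (by rcases hs with rfl | rfl <;> linarith) h
  · have h2 : (2 : ℤ) ^ w * 2 = 2 ^ i := by rw [← pow_succ]; congr 1; omega
    exact not_dvd_between 1 hM (by rcases hs with rfl | rfl <;> linarith)
      (by rcases hs with rfl | rfl <;> linarith) h

theorem mersenne_nine {i : ℕ} (hi : 5 ≤ i) (x : ℕ) {s : ℤ} (hs : s = 1 ∨ s = -1) :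
    ¬ ((2 : ℤ) ^ i - 1 ∣ 9 * 2 ^ x - s) := by
  intro h
  replace h := mersenne_coeff x h
  have hw : x % i < i := Nat.mod_lt _ (by omega)
  generalize x % i = w at h hw
  have hM := mersenne_pos (show 1 ≤ i by omega)
  have h32 : (32 : ℤ) ≤ 2 ^ i := by
    have : (2 : ℤ) ^ 5 ≤ 2 ^ i := pow_le_pow_right₀ (by norm_num) hi
    linarith
  have h1 : (1 : ℤ) ≤ 2 ^ w := one_le_pow₀ (by norm_num)
  rcases (show w + 4 ≤ i ∨ w + 3 = i ∨ w + 2 = i ∨ w + 1 = i by omega) with h' | h' | h' | h'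
  · have h2 : (2 : ℤ) ^ w * 16 ≤ 2 ^ i := by
      rw [show (16 : ℤ) = 2 ^ 4 by norm_num, ← pow_add]
      exact pow_le_pow_right₀ (by norm_num) h'
    exact not_dvd_between 0 hM (by rcases hs with rfl | rfl <;> linarith)
      (by rcases hs with rfl | rfl <;> linarith) h
  all_goals
    have h2 : (2 : ℤ) ^ i = 2 ^ w * 2 ^ (i - w) := by rw [← pow_add]; congr 1; omega
  · rw [show i - w = 3 by omega] at h2
    exact not_dvd_between 1 hM (by rcases hs with rfl | rfl <;> linarith)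
      (by rcases hs with rfl | rfl <;> linarith) h
  · rw [show i - w = 2 by omega] at h2
    exact not_dvd_between 2 hM (by rcases hs with rfl | rfl <;> linarith)
      (by rcases hs with rfl | rfl <;> linarith) h
  · rw [show i - w = 1 by omega] at h2
    exact not_dvd_between 4 hM (by rcases hs with rfl | rfl <;> linarith)
      (by rcases hs with rfl | rfl <;> linarith) h

theorem mersenne_one {i : ℕ} (hi : 5 ≤ i) (x : ℕ) {s : ℤ} (hs : s = 1 ∨ s = -1)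
    (h : (2 : ℤ) ^ i - 1 ∣ 2 ^ x - s) : s = 1 ∧ i ∣ x := by
  replace h := mersenne_coeff (i := i) (s := s) x (c := 1) (by rwa [one_mul])
  rw [one_mul] at h
  have hw : x % i < i := Nat.mod_lt _ (by omega)
  have hM := mersenne_pos (show 1 ≤ i by omega)
  have h32 : (32 : ℤ) ≤ 2 ^ i := by
    have : (2 : ℤ) ^ 5 ≤ 2 ^ i := pow_le_pow_right₀ (by norm_num) hi
    linarith
  have h1 : (1 : ℤ) ≤ 2 ^ (x % i) := one_le_pow₀ (by norm_num)
  have h2 : (2 : ℤ) ^ (x % i) * 2 ≤ 2 ^ i := by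
    rw [← pow_succ]; exact pow_le_pow_right₀ (by norm_num) (by omega)
  rcases hs with rfl | rfl
  · refine ⟨rfl, Nat.dvd_of_mod_eq_zero ?_⟩
    by_contra hne
    have h3 : (2 : ℤ) ^ 1 ≤ 2 ^ (x % i) := pow_le_pow_right₀ (by norm_num) (by omega)
    exact not_dvd_between 0 hM (by linarith) (by linarith) h
  · exact absurd h (not_dvd_between 0 hM (by linarith) (by linarith))

theorem fermat_nine {i : ℕ} (hi : 5 ≤ i) (x : ℕ) :
    ¬ ((2 : ℤ) ^ i + 1 ∣ 9 * 2 ^ x - 1) := by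
  intro h
  have h0 : (2 : ℤ) ^ i + 1 ∣ 2 ^ x - (-1) ^ (x / i) * 2 ^ (x % i) := by
    have h1 : (2 : ℤ) ^ x = ((2 : ℤ) ^ i) ^ (x / i) * 2 ^ (x % i) := by
      rw [← pow_mul, ← pow_add, Nat.div_add_mod]
    rw [h1, ← sub_mul]
    refine Dvd.dvd.mul_right ?_ _
    have := sub_dvd_pow_sub_pow ((2 : ℤ) ^ i) (-1) (x / i)
    rwa [sub_neg_eq_add] at this
  obtain ⟨s, hs, hd⟩ : ∃ s : ℤ, (s = 1 ∨ s = -1) ∧ (2 : ℤ) ^ i + 1 ∣ 9 * 2 ^ (x % i) - s := by
    refine ⟨(-1) ^ (x / i), neg_one_pow_eq_or ℤ _, ?_⟩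
    have h2 := (dvd_sub h (h0.mul_left 9)).mul_left ((-1) ^ (x / i))
    have h3 : ((-1 : ℤ) ^ (x / i)) * (-1) ^ (x / i) = 1 := by rw [← mul_pow]; simp
    rw [show (9 : ℤ) * 2 ^ (x % i) - (-1) ^ (x / i) =
      (-1) ^ (x / i) * (9 * 2 ^ x - 1 - 9 * (2 ^ x - (-1) ^ (x / i) * 2 ^ (x % i))) by
        linear_combination (-9 * (2 : ℤ) ^ (x % i)) * h3]
    exact h2
  have hw : x % i < i := Nat.mod_lt _ (by omega)
  generalize x % i = w at hd hw
  have hM : (0 : ℤ) < 2 ^ i + 1 := by positivity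
  have h32 : (32 : ℤ) ≤ 2 ^ i := by
    have : (2 : ℤ) ^ 5 ≤ 2 ^ i := pow_le_pow_right₀ (by norm_num) hi
    linarith
  have h1 : (1 : ℤ) ≤ 2 ^ w := one_le_pow₀ (by norm_num)
  rcases (show w + 4 ≤ i ∨ w + 3 = i ∨ w + 2 = i ∨ w + 1 = i by omega) with h' | h' | h' | h'
  · have h2 : (2 : ℤ) ^ w * 16 ≤ 2 ^ i := by
      rw [show (16 : ℤ) = 2 ^ 4 by norm_num, ← pow_add]
      exact pow_le_pow_right₀ (by norm_num) h'
    exact not_dvd_between 0 hM (by rcases hs with rfl | rfl <;> linarith)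
      (by rcases hs with rfl | rfl <;> linarith) hd
  all_goals
    have h2 : (2 : ℤ) ^ i = 2 ^ w * 2 ^ (i - w) := by rw [← pow_add]; congr 1; omega
  · rw [show i - w = 3 by omega] at h2
    exact not_dvd_between 1 hM (by rcases hs with rfl | rfl <;> linarith)
      (by rcases hs with rfl | rfl <;> linarith) hd
  · rw [show i - w = 2 by omega] at h2
    exact not_dvd_between 2 hM (by rcases hs with rfl | rfl <;> linarith)
      (by rcases hs with rfl | rfl <;> linarith) hd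
  · rw [show i - w = 1 by omega] at h2
    exact not_dvd_between 4 hM (by rcases hs with rfl | rfl <;> linarith)
      (by rcases hs with rfl | rfl <;> linarith) hd


end Cfsg.Agent.NineTwoQ
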