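import Cfsg.Agent.Lib.NineTwoQ.PrimeSide
import Cfsg.Agent.Lib.NineTwoQ.Arith

/-!
# The cases `q = 2^i ± 1`, `i ≥ 5`, and `q = 5, 7`
-/

set_option autoImplicit false
set_option linter.style.haveILetI false
set_option linter.unusedSectionVars false

namespace Cfsg.Agent.NineTwoQ

open Cfsg Cfsg.Agent
open scoped ComplexConjugate Classical

universe u

variable {G : Type u} [Group G] [Fintype G] [IsSimpleGroup G]

/-- The common hypotheses. -/
structure Setting (G : Type u) [Group G] [Fintype G] (q a : ℕ) [Fact q.Prime] where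
  hna : ∃ x y : G, x * y ≠ y * x
  hcard : Nat.card G = 9 * 2 ^ a * q
  hq2 : q ≠ 2
  hq3 : q ≠ 3
  P : Sylow q G
  hSC : DefectOne.SelfCent P
  M : Ideal AlgInt
  hM : M.IsMaximal
  hpM : (q : AlgInt) ∈ M

theorem Setting.exists_shape {q a : ℕ} [Fact q.Prime] (D : Setting G q a) :
    haveI := D.hM
    ∃ m, Nonempty (DefectOne.PrimeShape D.P D.M m) ∧
      (Subgroup.centralizer ((D.P : Subgroup G) : Set G)).relIndex
        (Subgroup.normalizer ((D.P : Subgroup G) : Set G)) = m ∧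
      m ∣ q - 1 ∧ 2 ≤ m ∧ m ∣ 9 * 2 ^ a ∧ ∃ k : ℕ, 9 * 2 ^ a = m * k ∧ (q : ℤ) ∣ (k : ℤ) - 1 := by
  haveI := D.hM
  obtain ⟨S⟩ := DefectOne.primeShape D.hpM D.hSC.card
    (m := (Subgroup.centralizer ((D.P : Subgroup G) : Set G)).relIndex
      (Subgroup.normalizer ((D.P : Subgroup G) : Set G))) rfl
  obtain ⟨h1, h2, k, hk, hk'⟩ := normalizer_facts D.hna D.hq2 D.hq3 D.hcard D.hSC rfl
  refine ⟨_, ⟨S⟩, rfl, S.m_dvd, h1, h2, k, hk, ⟨(k / q : ℕ), ?_⟩⟩
  have h3 := Nat.div_add_mod k q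
  rw [hk'] at h3
  have : ((q * (k / q) + 1 : ℕ) : ℤ) = (k : ℤ) := by exact_mod_cast h3
  rw [← this]
  simp only [Nat.cast_add, Nat.cast_mul, Nat.cast_one]
  ring

theorem pow_pred_mul {a : ℕ} (ha : 1 ≤ a) : (2 : ℕ) ^ a = 2 * 2 ^ (a - 1) := by
  rw [← pow_succ']; congr 1; omega

theorem even_three_pow_mul {s u : ℕ} (h : ¬ 2 ∣ 3 ^ s * 2 ^ u) : u = 0 := by
  by_contra h0
  exact h (Dvd.dvd.mul_left (dvd_pow_self 2 h0) _)

/-- The degree congruence as a divisibility. -/
theorem X_dvd {q m : ℕ} [Fact q.Prime] {P : Sylow q G} {M : Ideal AlgInt} [M.IsMaximal]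
    (S : DefectOne.PrimeShape P M m) {χ : IrrCharacter G} (hχ : χ ∈ S.X) {s u : ℕ}
    (hd : Char.degree χ = 3 ^ s * 2 ^ u) : (q : ℤ) ∣ (3 : ℤ) ^ s * 2 ^ u - S.εX χ := by
  have h := S.X_deg' hχ
  rw [hd] at h
  push_cast at h
  exact Int.modEq_iff_dvd.1 h.symm

/-- No `q = 2^i - 1` with `i ≥ 5`. -/
theorem mersenne_false {q a i : ℕ} [hq : Fact q.Prime] (D : Setting G q a) (hi : 5 ≤ i)
    (hqi : q + 1 = 2 ^ i) (hia : i ≤ a) : False := by
  haveI := D.hM
  obtain ⟨m, ⟨S⟩, hm, hmq, hm2, hm9, k, hk, hqk⟩ := D.exists_shape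
  have h32 : 32 ≤ 2 ^ i := by
    calc 32 = 2 ^ 5 := by norm_num
      _ ≤ 2 ^ i := Nat.pow_le_pow_right (by norm_num) hi
  have hqM : (q : ℤ) = (2 : ℤ) ^ i - 1 := by
    have : ((q + 1 : ℕ) : ℤ) = ((2 ^ i : ℕ) : ℤ) := by rw [hqi]
    push_cast at this
    linarith
  have h4 : ¬ 4 ∣ q - 1 := by
    rintro ⟨c, hc⟩
    obtain ⟨i', rfl⟩ : ∃ i', i = i' + 2 := ⟨i - 2, by omega⟩
    rw [pow_add] at hqi
    omega
  have hm18 : m = 2 ∨ m = 3 ∨ m = 6 ∨ m = 9 ∨ m = 18 := by
    have hdvd : m ∣ 18 := by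
      obtain ⟨x, y, hx, hy, hxy⟩ := Nat.dvd_mul.1 hm9
      obtain ⟨f, -, rfl⟩ := (Nat.dvd_prime_pow Nat.prime_two).1 hy
      have hf : f ≤ 1 := by
        by_contra hf
        exact h4 (((pow_dvd_pow 2 (show 2 ≤ f by omega)).trans (Dvd.intro_left x hxy)).trans hmq)
      rw [← hxy, show 18 = 9 * 2 ^ 1 by norm_num]
      exact Nat.mul_dvd_mul hx (pow_dvd_pow 2 hf)
    have := Nat.le_of_dvd (by norm_num) hdvd
    interval_cases m <;> omega
  have ha2 := pow_pred_mul (show 1 ≤ a by omega)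
  have hm9' : m = 9 ∨ m = 18 := by
    rcases hm18 with rfl | rfl | rfl | h | h
    · exfalso
      have hk' : k = 9 * 2 ^ (a - 1) := by rw [ha2] at hk; omega
      rw [hk'] at hqk; push_cast at hqk
      exact mersenne_nine hi (a - 1) (Or.inl rfl) (by rw [← hqM]; exact hqk)
    · exfalso
      have hk' : k = 3 * 2 ^ a := by omega
      rw [hk'] at hqk; push_cast at hqk
      exact mersenne_three hi a (Or.inl rfl) (by rw [← hqM]; exact hqk)
    · exfalso
      have hk' : k = 3 * 2 ^ (a - 1) := by rw [ha2] at hk; omega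
      rw [hk'] at hqk; push_cast at hqk
      exact mersenne_three hi (a - 1) (Or.inl rfl) (by rw [← hqM]; exact hqk)
    · exact Or.inl h
    · exact Or.inr h
  have ht : 2 ≤ (q - 1) / m := by
    obtain ⟨c, hc⟩ := hmq
    rw [hc, Nat.mul_div_cancel_left _ (by omega)]
    by_contra hlt
    have : c = 0 ∨ c = 1 := by omega
    rcases this with rfl | rfl <;> omega
  have hT := trivial_mem_X D.hna S ht
  obtain ⟨θ, hθ⟩ : S.Y.Nonempty := Finset.card_pos.1 (by rw [S.cardY]; omega)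
  have hX : ∀ χ ∈ S.X.erase (Char.trivialChar G),
      S.εX χ = 1 ∧ 2 ^ i ∣ Char.degree χ := by
    intro χ hχ
    obtain ⟨hne, hmem⟩ := Finset.mem_erase.1 hχ
    obtain ⟨s, u, hs, -, hd⟩ := degree_form D.hq2 D.hcard χ (not_dvd_degree_X S hmem)
    have hdvd := X_dvd S hmem hd
    rw [hqM] at hdvd
    interval_cases s
    · rw [pow_zero, one_mul] at hdvd hd
      obtain ⟨h1, h2⟩ := mersenne_one hi u (S.hεX χ hmem) hdvd
      refine ⟨h1, ?_⟩
      rw [hd]
      refine pow_dvd_pow 2 (Nat.le_of_dvd (Nat.pos_of_ne_zero fun h0 => ?_) h2)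
      exact degree_ne_one D.hna hne (by rw [hd, h0, pow_zero])
    · rw [pow_one] at hdvd
      exact absurd hdvd (mersenne_three hi u (S.hεX χ hmem))
    · norm_num at hdvd
      exact absurd hdvd (mersenne_nine hi u (S.hεX χ hmem))
  have hrel := S.degree_relation hθ
  rw [← Finset.add_sum_erase _ _ hT, eX_trivial D.hSC S hT, degree_trivial,
    Finset.sum_congr rfl fun χ hχ => show S.εX χ * (Char.degree χ : ℤ) = (Char.degree χ : ℤ) by
      rw [(hX χ hχ).1, one_mul], ← Nat.cast_sum] at hrel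
  set T := ∑ χ ∈ S.X.erase (Char.trivialChar G), Char.degree χ with hTdef
  have hTev : 2 ∣ T := Finset.dvd_sum fun χ hχ =>
    (dvd_pow_self 2 (show i ≠ 0 by omega)).trans (hX χ hχ).2
  have hTbig : 32 ≤ T := by
    obtain ⟨χ, hχ⟩ : (S.X.erase (Char.trivialChar G)).Nonempty := Finset.card_pos.1 (by
      rw [Finset.card_erase_of_mem hT, S.cardX]; omega)
    calc 32 ≤ Char.degree χ := h32.trans (Nat.le_of_dvd (Char.degree_pos χ) (hX χ hχ).2)
      _ ≤ T := Finset.single_le_sum (fun _ _ => Nat.zero_le _) hχ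
  have hε : S.ε = 1 := by
    rcases S.hε with e | e
    · exact e
    · rw [e] at hrel; push_cast at hrel; omega
  rw [hε, one_mul] at hrel
  have hθd : Char.degree θ = 1 + T := by
    have : ((Char.degree θ : ℕ) : ℤ) = ((1 + T : ℕ) : ℤ) := by push_cast at hrel ⊢; linarith
    exact_mod_cast this
  obtain ⟨s, u, hs, -, hd⟩ := degree_form D.hq2 D.hcard θ (not_dvd_degree_Y S hθ (by omega))
  have hu : u = 0 := even_three_pow_mul (s := s) (by rw [← hd, hθd]; omega)
  rw [hu, pow_zero, mul_one] at hd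
  have : 3 ^ s ≤ 3 ^ 2 := Nat.pow_le_pow_right (by norm_num) hs
  omega

/-- No `q = 2^i + 1` with `i ≥ 5`. -/
theorem fermat_false {q a i : ℕ} [hq : Fact q.Prime] (D : Setting G q a) (hi : 5 ≤ i)
    (hqi : q = 2 ^ i + 1) : False := by
  haveI := D.hM
  obtain ⟨m, ⟨S⟩, hm, hmq, hm2, hm9, k, hk, hqk⟩ := D.exists_shape
  rw [hqi, Nat.add_sub_cancel] at hmq
  obtain ⟨f, -, rfl⟩ := (Nat.dvd_prime_pow Nat.prime_two).1 hmq
  have hfa : f ≤ a := (Nat.pow_dvd_pow_iff_le_right (by norm_num)).1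
    ((Nat.Coprime.pow_left f (show Nat.Coprime 2 9 by norm_num)).dvd_of_dvd_mul_left hm9)
  have hk' : k = 9 * 2 ^ (a - f) := by
    refine Nat.eq_of_mul_eq_mul_left (Nat.two_pow_pos f) ?_
    rw [← hk, mul_left_comm, ← pow_add, Nat.add_sub_cancel' hfa]
  rw [hk', hqi] at hqk
  push_cast at hqk
  exact fermat_nine hi (a - f) hqk

theorem pow_two_le_of_dvd {a c : ℕ} (hc : 0 < c) {N : ℕ} (h : N * (2 ^ a * 2 ^ a) ∣ N * (c * 2 ^ a))
    (hN : 0 < N) : 2 ^ a ∣ c :=
  Nat.dvd_of_mul_dvd_mul_right (Nat.two_pow_pos a) (Nat.dvd_of_mul_dvd_mul_left hN h)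

theorem seven_key0 : ∀ j : Fin 3, (3 : ZMod 7) * 2 ^ (j : ℕ) - 1 ≠ 0 := by decide

/-- `q = 7`. -/
theorem seven {a : ℕ} [hq : Fact (Nat.Prime 7)] (D : Setting G 7 a) {χ : IrrCharacter G}
    (hχ : Char.degree χ = 8) (ha : 3 ≤ a) {v : G} (hv : orderOf v = 2)
    (hodd : ¬ 2 ∣ (Subgroup.centralizer ({v} : Set G)).index) : a = 3 := by
  haveI := D.hM
  obtain ⟨m, ⟨S⟩, hm, hmq, hm2, hm9, k, hk, hqk⟩ := D.exists_shape
  have ha2 := pow_pred_mul (show 1 ≤ a by omega)
  have key : ∀ x : ℕ, ¬ ((7 : ℕ) : ℤ) ∣ 3 * 2 ^ x - 1 := by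
    intro x
    rw [← ZMod.intCast_zmod_eq_zero_iff_dvd]
    push_cast
    have hx : (2 : ZMod 7) ^ x = 2 ^ (x % 3) := by
      conv_lhs => rw [← Nat.mod_add_div x 3, pow_add, pow_mul, show (2 : ZMod 7) ^ 3 = 1 from rfl,
        one_pow, mul_one]
    rw [hx]
    exact seven_key0 ⟨x % 3, Nat.mod_lt _ (by norm_num)⟩
  have hm' : m = 2 := by
    have := Nat.le_of_dvd (by norm_num) hmq
    interval_cases m <;> try omega
    · exfalso
      have hk' : k = 3 * 2 ^ a := by omega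
      rw [hk'] at hqk; push_cast at hqk
      exact key a (by exact_mod_cast hqk)
    · exfalso
      have hk' : k = 3 * 2 ^ (a - 1) := by rw [ha2] at hk; omega
      rw [hk'] at hqk; push_cast at hqk
      exact key (a - 1) (by exact_mod_cast hqk)
  subst hm'
  have hT := trivial_mem_X D.hna S (by norm_num)
  have hne : χ ≠ Char.trivialChar G := ne_trivial_of_degree D.hna (by omega)
  have hχX : χ ∈ S.X := by
    refine (S.mem_XY (D.hSC.mem_block D.hpM (by rw [hχ]; norm_num))).resolve_right fun hY => ?_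
    have h := S.Y_deg' hY
    rw [hχ] at h
    rcases S.hε with e | e <;> rw [e] at h <;> revert h <;> decide
  have hεχ : S.εX χ = 1 := by
    have h := S.X_deg' hχX
    rw [hχ] at h
    rcases S.hεX χ hχX with e | e
    · exact e
    · rw [e] at h; exact absurd h (by decide)
  have hX : S.X = {Char.trivialChar G, χ} := by
    refine (Finset.eq_of_subset_of_card_le (fun x hx => ?_) ?_).symm
    · simp only [Finset.mem_insert, Finset.mem_singleton] at hx
      rcases hx with rfl | rfl <;> assumption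
    · rw [S.cardX, Finset.card_pair hne.symm]
  obtain ⟨θ, hθ⟩ : S.Y.Nonempty := Finset.card_pos.1 (by rw [S.cardY]; norm_num)
  have hrel := S.degree_relation hθ
  rw [hX, Finset.sum_pair hne.symm, eX_trivial D.hSC S hT, hεχ, degree_trivial, hχ] at hrel
  have hε : S.ε = 1 := by
    rcases S.hε with e | e
    · exact e
    · rw [e] at hrel; push_cast at hrel; omega
  rw [hε] at hrel
  have hθd : Char.degree θ = 9 := by push_cast at hrel; omega
  have hχv : χ.1 v = 0 := apply_eq_zero_two_pow D.hna hv hodd (u := 3) hne (by rw [hχ]; norm_num)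
  have hθv : θ.1 v = 1 := by
    have h := S.relation θ hθ v (show ¬ 7 ∣ orderOf v by rw [hv]; norm_num)
    rw [hX, Finset.sum_pair hne.symm, eX_trivial D.hSC S hT, hεχ, hε, hχv, Char.trivialChar_apply] at h
    push_cast at h
    linear_combination h
  obtain ⟨n, hn, hdvd⟩ := pairs D.hna D.hq2 D.hcard D.hSC D.hpM S hv hodd hθ
  rw [hX, Finset.sum_pair hne.symm, eX_trivial D.hSC S hT, hεχ, hε, hθd, hθv, hχv, hχ,
    degree_trivial, Char.trivialChar_apply, D.hcard] at hn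
  have hn' : n = 7 * (8 * 2 ^ a) := by
    have : (n : ℂ) = ((7 * (8 * 2 ^ a) : ℕ) : ℂ) := by rw [hn]; push_cast; ring
    exact_mod_cast this
  have h8 := pow_two_le_of_dvd (by norm_num) (hn' ▸ hdvd) (by norm_num)
  have : a ≤ 3 := (Nat.pow_dvd_pow_iff_le_right (show 1 < 2 by norm_num)).1
    (show 2 ^ a ∣ 2 ^ 3 by simpa using h8)
  omega

/-- `q = 5`. -/
theorem five {a : ℕ} [hq : Fact (Nat.Prime 5)] (D : Setting G 5 a) {χ : IrrCharacter G}
    (hχ : Char.degree χ = 4) (ha : 2 ≤ a) {v : G} (hv : orderOf v = 2)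
    (hodd : ¬ 2 ∣ (Subgroup.centralizer ({v} : Set G)).index) : False := by
  haveI := D.hM
  obtain ⟨m, ⟨S⟩, hm, hmq, hm2, hm9, k, hk, hqk⟩ := D.exists_shape
  have ha2 := pow_pred_mul (show 1 ≤ a by omega)
  have hm' : m = 2 ∨ m = 4 := by
    have := Nat.le_of_dvd (by norm_num) hmq
    interval_cases m <;> omega
  rcases hm' with rfl | rfl
  swap
  · exact false_of_degree_pred D.hna D.hq2 D.hSC D.hpM S hm hχ
  have hne : χ ≠ Char.trivialChar G := ne_trivial_of_degree D.hna (by omega)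
  have hT := trivial_mem_X D.hna S (by norm_num)
  have hχX : χ ∈ S.X := by
    refine (S.mem_XY (D.hSC.mem_block D.hpM (by rw [hχ]; norm_num))).resolve_right fun hY => ?_
    have h := S.Y_deg' hY
    rw [hχ] at h
    rcases S.hε with e | e <;> rw [e] at h <;> revert h <;> decide
  have hεχ : S.εX χ = -1 := by
    have h := S.X_deg' hχX
    rw [hχ] at h
    rcases S.hεX χ hχX with e | e
    · rw [e] at h; exact absurd h (by decide)
    · exact e
  have hX : S.X = {Char.trivialChar G, χ} := by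
    refine (Finset.eq_of_subset_of_card_le (fun x hx => ?_) ?_).symm
    · simp only [Finset.mem_insert, Finset.mem_singleton] at hx
      rcases hx with rfl | rfl <;> assumption
    · rw [S.cardX, Finset.card_pair hne.symm]
  obtain ⟨θ, hθ⟩ : S.Y.Nonempty := Finset.card_pos.1 (by rw [S.cardY]; norm_num)
  have hrel := S.degree_relation hθ
  rw [hX, Finset.sum_pair hne.symm, eX_trivial D.hSC S hT, hεχ, degree_trivial, hχ] at hrel
  have hε : S.ε = -1 := by
    rcases S.hε with e | e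
    · rw [e] at hrel; push_cast at hrel; omega
    · exact e
  rw [hε] at hrel
  have hθd : Char.degree θ = 3 := by push_cast at hrel; omega
  have hχv : χ.1 v = 0 := apply_eq_zero_two_pow D.hna hv hodd (u := 2) hne (by rw [hχ]; norm_num)
  have hθv : θ.1 v = -1 := by
    have h := S.relation θ hθ v (show ¬ 5 ∣ orderOf v by rw [hv]; norm_num)
    rw [hX, Finset.sum_pair hne.symm, eX_trivial D.hSC S hT, hεχ, hε, hχv, Char.trivialChar_apply] at h
    push_cast at h
    linear_combination -h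
  obtain ⟨n, hn, hdvd⟩ := pairs D.hna D.hq2 D.hcard D.hSC D.hpM S hv hodd hθ
  rw [hX, Finset.sum_pair hne.symm, eX_trivial D.hSC S hT, hεχ, hε, hθd, hθv, hχv, hχ,
    degree_trivial, Char.trivialChar_apply, D.hcard] at hn
  have hn' : n = 5 * (12 * 2 ^ a) := by
    have : (n : ℂ) = ((5 * (12 * 2 ^ a) : ℕ) : ℂ) := by rw [hn]; push_cast; ring
    exact_mod_cast this
  have h12 := pow_two_le_of_dvd (by norm_num) (hn' ▸ hdvd) (by norm_num)
  have h4 : a ≤ 2 := by
    have h : 2 ^ a ∣ 4 := (Nat.Coprime.pow_left a (show Nat.Coprime 2 3 by norm_num)).dvd_of_dvd_mul_left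
      (show 2 ^ a ∣ 3 * 4 by norm_num; exact h12)
    exact (Nat.pow_dvd_pow_iff_le_right (show 1 < 2 by norm_num)).1 (show 2 ^ a ∣ 2 ^ 2 by simpa using h)
  obtain rfl : a = 2 := by omega
  obtain rfl : k = 18 := by omega
  revert hqk
  norm_num

end Cfsg.Agent.NineTwoQ
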