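import Cfsg.Agent.Lib.NineTwoQ.VFour
import Cfsg.Agent.Lib.Blocks.OneClassPrincipal
import Cfsg.Agent.S4696

/-!
# Two consecutive character degrees prime to 3
-/

set_option autoImplicit false
set_option linter.style.haveILetI false
set_option linter.unusedSectionVars false

namespace Cfsg.Agent.NineTwoQ

open Cfsg Cfsg.Agent
open scoped ComplexConjugate Classical Cfsg.Agent.Blocks

universe u

variable {G : Type u} [Group G] [Fintype G]

/-- A Sylow subgroup is a defect group of the principal block. -/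
theorem exists_defect_sylow {p : ℕ} [Fact p.Prime] {M : Ideal AlgInt} [M.IsMaximal]
    (hpM : (p : AlgInt) ∈ M) :
    ∃ R : Sylow p G, IsDefectGroup p M (principalBlock M G) (R : Subgroup G) := by
  obtain ⟨D, hD⟩ := Blocks.exists_defectGroup (p := p)
    (Blocks.isPBlock_principalBlock hpM (G := G) (M := M))
  have hc := Blocks.card_defectGroup hpM (Blocks.isPBlock_principalBlock hpM) hD
  rw [Blocks.OneClass.blockDefect_principal] at hc
  exact ⟨Sylow.ofCard D hc, by simpa using hD⟩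

variable [IsSimpleGroup G]

/-- The cyclic case. -/
theorem consecutive_of_cyclic (hna : ∃ a b : G, a * b ≠ b * a) {M : Ideal AlgInt}
    (hM : IsPModular 3 M) {R : Sylow 3 G} (hR : Nat.card R = 9)
    (hcyc : IsCyclic (R : Subgroup G))
    (hD : IsDefectGroup 3 M (principalBlock M G) (R : Subgroup G)) :
    ∃ χ₁ χ₂ : IrrCharacter G, 1 < Char.degree χ₁ ∧ Char.degree χ₂ = Char.degree χ₁ + 1 ∧
      ¬ 3 ∣ Char.degree χ₁ ∧ ¬ 3 ∣ Char.degree χ₂ := by
  haveI : M.IsMaximal := hM.2.1
  have hpM := hM.2.2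
  haveI : CharP (AlgInt ⧸ M) 3 := Blocks.charP_residue hpM
  set C := Subgroup.centralizer ((R : Subgroup G) : Set G) with hC
  set N := Subgroup.normalizer ((R : Subgroup G) : Set G) with hN
  have hab := comm_of_card_nine hR
  have hRC : (R : Subgroup G) ≤ C := fun x hx =>
    Subgroup.mem_centralizer_iff.2 fun y hy => SmithTyrer.mul_comm_of_mem hab hy hx
  obtain ⟨B', hB'⟩ := Blocks.inducedBlockDefined_of_le hpM R.isPGroup' (le_refl C)
    (Subgroup.centralizer_le_normalizer _) hRC (Blocks.isPBlock_principalBlock hpM (G := C))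
  rw [(Blocks.third_main hpM hB').2 rfl] at hB'
  have hT : ∀ g : G, g ∈ N ↔ (g ∈ N ∧ ∀ θ ∈ principalBlock M C, ∀ θ' : IrrCharacter C,
      (∀ h h' : C, (h' : G) = g * h * g⁻¹ → θ'.1 h' = θ.1 h) → θ' ∈ principalBlock M C) := by
    refine fun g => ⟨fun hg => ⟨hg, fun θ hθ θ' hθ' => ?_⟩, fun h => h.1⟩
    have hH : ∀ c, c ∈ C ↔ g⁻¹ * c * g ∈ C := fun c => by
      have h1 := Subgroup.mem_normalizer_iff.1
        (BrauerPairs.normalizer_le_normalizer_centralizer _ hg : g ∈ Subgroup.normalizer (C : Set G))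
        (g⁻¹ * c * g)
      rw [show g * (g⁻¹ * c * g) * g⁻¹ = c by group] at h1
      exact h1.symm
    have he : θ' = BrauerPairs.compIrr (BrauerPairs.conjIso g hH) θ := Subtype.ext (funext fun c => by
      rw [BrauerPairs.compIrr_apply]
      exact hθ' _ c (by
        show (c : G) = g * (g⁻¹ * (c : G) * g) * g⁻¹
        group))
    rw [he, ← BrauerPairs.mapBlock_principalBlock (M := M) (BrauerPairs.conjIso g hH)]
    exact ⟨θ, hθ, rfl⟩
  obtain ⟨he, hht, X, Y, hXY, hdisj, hXc, hYc, hagree, δ, δ₀, hδ, hδ₀, hrel, -, -⟩ :=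
    S4696.result 3 M hM (R : Subgroup G) hcyc 2 (by norm_num) (by rw [hR]; norm_num)
      (principalBlock M G) (Blocks.isPBlock_principalBlock hpM) hD (principalBlock M C) hB' N hT
      (C.relIndex N) rfl
  have he1 : C.relIndex N ≠ 1 := by
    intro h
    obtain ⟨y, hy⟩ : ∃ y : (R : Subgroup G), y ≠ 1 := by
      haveI : Nontrivial (R : Subgroup G) := Finite.one_lt_card_iff_nontrivial.1 (by
        rw [show Nat.card (R : Subgroup G) = 9 from hR]; norm_num)
      exact exists_ne 1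
    refine hy (Subtype.ext (eq_one_of_fixed hna hab y.2 fun g hg => ?_))
    exact mul_inv_eq_iff_eq_mul.2
      (Subgroup.mem_centralizer_iff.1 (Subgroup.relIndex_eq_one.1 h hg) y y.2).symm
  have he2 : C.relIndex N = 2 := ((Nat.dvd_prime Nat.prime_two).1 (by simpa using he)).resolve_left he1
  rw [he2, Nat.card_coe_set_eq] at hXc hYc
  norm_num at hYc
  have hlin : ∀ χ : IrrCharacter G, Char.degree χ = 1 → χ = Char.trivialChar G := fun χ h =>
    Blocks.eq_trivial_of_degree_one hna χ (by rw [Char.apply_one_eq_degree, h, Nat.cast_one])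
  have h31 : ¬ 3 ∣ orderOf (1 : G) := by simp
  have hTd : Char.degree (Char.trivialChar G) = 1 := by
    have := Char.apply_one_eq_degree (Char.trivialChar G)
    rw [Char.trivialChar_apply] at this
    exact_mod_cast this.symm
  have hTX : Char.trivialChar G ∈ X := by
    have h : Char.trivialChar G ∈ X ∪ Y := hXY ▸ Blocks.trivial_mem_principalBlock
    refine h.resolve_right fun hY => ?_
    obtain ⟨ψ, hψY, hψne⟩ : ∃ ψ ∈ Y, ψ ≠ Char.trivialChar G := by
      by_contra hno
      push Not at hno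
      have : Y = {Char.trivialChar G} := Set.eq_singleton_iff_unique_mem.2 ⟨hY, hno⟩
      rw [this, Set.ncard_singleton] at hYc
      omega
    have := hagree ψ hψY _ hY 1 h31
    rw [Char.apply_one_eq_degree, Char.trivialChar_apply] at this
    exact hψne (hlin ψ (by exact_mod_cast this))
  obtain ⟨u, v, huv, hXe⟩ := Set.ncard_eq_two.1 hXc
  obtain ⟨η, hη, hXη⟩ : ∃ η, η ≠ Char.trivialChar G ∧ X = {Char.trivialChar G, η} := by
    rw [hXe] at hTX
    rcases hTX with h | h
    · exact ⟨v, fun e => huv (h.symm.trans e.symm), by rw [hXe, h]⟩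
    · rw [Set.mem_singleton_iff] at h
      exact ⟨u, fun e => huv (e.trans h), by rw [hXe, h, Set.pair_comm]⟩
  obtain ⟨ψ, hψ⟩ : Y.Nonempty := Set.nonempty_of_ncard_ne_zero (by rw [hYc]; norm_num)
  have hψne : ψ ≠ Char.trivialChar G := fun e => Set.disjoint_left.1 hdisj hTX (e ▸ hψ)
  have hrel1 := hrel ψ hψ 1 h31
  rw [hXη, finsum_mem_pair hη.symm, Char.apply_one_eq_degree, Char.apply_one_eq_degree,
    Char.apply_one_eq_degree, hTd, Nat.cast_one, mul_one] at hrel1
  have hrel2 : δ₀ * (Char.degree ψ : ℤ) + (δ (Char.trivialChar G) + δ η * (Char.degree η : ℤ)) = 0 := by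
    exact_mod_cast hrel1
  have hψd := one_lt_degree hna hψne
  have hηd := one_lt_degree hna hη
  have hno3 : ∀ χ ∈ principalBlock M G, ¬ 3 ∣ Char.degree χ := by
    intro χ hχ h3
    have h := hht χ hχ
    have hinf : sInf ((fun ψ : IrrCharacter G => (charDegree ψ.1).factorization 3) ''
        principalBlock M G) = 0 := Nat.le_zero.1 (Nat.sInf_le
      ⟨Char.trivialChar G, Blocks.trivial_mem_principalBlock, by
        simp [Blocks.charDegree_eq, hTd]⟩)
    rw [blockHeight, hinf, Nat.sub_zero, Blocks.charDegree_eq] at h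
    exact absurd h (Nat.prime_three.factorization_pos_of_dvd (Char.degree_pos χ).ne' h3).ne'
  have hψ3 := hno3 ψ (hXY ▸ Or.inr hψ)
  have hη3 := hno3 η (hXY ▸ Or.inl (by rw [hXη]; exact Or.inr rfl))
  have hTδ := hδ _ hTX
  have hηδ := hδ η (by rw [hXη]; exact Or.inr rfl)
  by_cases hlt : Char.degree ψ < Char.degree η
  · refine ⟨ψ, η, hψd, ?_, hψ3, hη3⟩
    rcases hδ₀ with h0 | h0 <;> rcases hTδ with h1 | h1 <;> rcases hηδ with h2 | h2 <;>
      rw [h0, h1, h2] at hrel2 <;> omega
  · refine ⟨η, ψ, hηd, ?_, hη3, hψ3⟩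
    rcases hδ₀ with h0 | h0 <;> rcases hTδ with h1 | h1 <;> rcases hηδ with h2 | h2 <;>
      rw [h0, h1, h2] at hrel2 <;> omega

/-- The 3-local part of the statement. -/
theorem exists_consecutive_degrees (hna : ∃ a b : G, a * b ≠ b * a) {n : ℕ}
    (hcard : Nat.card G = 9 * n) (hn : ¬ 3 ∣ n)
    (h3 : 3 ≤ Nat.card {C : ConjClasses G // ∃ g ∈ C.carrier, g ≠ 1 ∧ orderOf g ∣ 9}) :
    ∃ χ₁ χ₂ : IrrCharacter G, 1 < Char.degree χ₁ ∧ Char.degree χ₂ = Char.degree χ₁ + 1 ∧
      ¬ 3 ∣ Char.degree χ₁ ∧ ¬ 3 ∣ Char.degree χ₂ := by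
  obtain ⟨M, hM⟩ := CharInt.exists_isPModular_of_prime Nat.prime_three
  haveI : M.IsMaximal := hM.2.1
  haveI : CharP (AlgInt ⧸ M) 3 := Blocks.charP_residue hM.2.2
  obtain ⟨R, hD⟩ := exists_defect_sylow (G := G) (p := 3) hM.2.2
  have hR : Nat.card R = 9 := by
    rw [R.card_eq_multiplicity, hcard, Nat.factorization_mul (by norm_num) (fun h => hn (by simp [h])),
      Finsupp.add_apply, show (9 : ℕ) = 3 ^ 2 by norm_num, Nat.prime_three.factorization_pow,
      Finsupp.single_eq_same, Nat.factorization_eq_zero_of_not_dvd hn]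
  rcases cyclic_or_vfour hna hR h3 with hcyc | ⟨⟨V⟩⟩
  · exact consecutive_of_cyclic hna hM hR hcyc hD
  · exact V.exists_consecutive hna hR (by exact_mod_cast hM.2.2) hD

end Cfsg.Agent.NineTwoQ
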