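import Cfsg.Agent.Lib.NineTwoQ.Seventeen
import Cfsg.Agent.Lib.NineTwoQ.ThreeSide

/-!
# Simple groups of order `9 · 2^a · q^b` with three classes of 3-elements
-/

set_option autoImplicit false
set_option linter.style.haveILetI false
set_option linter.unusedSectionVars false

namespace Cfsg.Agent.NineTwoQ

open Cfsg Cfsg.Agent
open scoped ComplexConjugate Classical

universe u

variable {G : Type u} [Group G] [Finite G] [IsSimpleGroup G]

/-- The order is `504` or `2448`. -/
theorem card_eq (hG : ¬ IsMulCommutative G) (q a b : ℕ) (hq : q.Prime) (hq2 : q ≠ 2) (hq3 : q ≠ 3)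
    (hcard : Nat.card G = 9 * 2 ^ a * q ^ b)
    (h3 : 3 ≤ Nat.card {C : ConjClasses G // ∃ g ∈ C.carrier, g ≠ 1 ∧ orderOf g ∣ 9}) :
    Nat.card G = 504 ∨ Nat.card G = 2448 := by
  haveI := Fintype.ofFinite G
  haveI := Fact.mk hq
  have hna : ∃ x y : G, x * y ≠ y * x := by
    by_contra h
    push Not at h
    exact hG ⟨⟨h⟩⟩
  have h32 : Nat.Coprime 3 2 := by norm_num
  have h3q : Nat.Coprime 3 q := (Nat.coprime_primes Nat.prime_three hq).2 (Ne.symm hq3)
  have h3n : ¬ 3 ∣ 2 ^ a * q ^ b := fun h => by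
    rcases Nat.prime_three.dvd_mul.1 h with h | h
    · exact (Nat.prime_three.coprime_iff_not_dvd.1 h32) (Nat.prime_three.dvd_of_dvd_pow h)
    · exact (Nat.prime_three.coprime_iff_not_dvd.1 h3q) (Nat.prime_three.dvd_of_dvd_pow h)
  obtain ⟨χ₁, χ₂, h1, h21, hn1, hn2⟩ := exists_consecutive_degrees hna
    (n := 2 ^ a * q ^ b) (by rw [hcard, mul_assoc]) h3n h3
  have hd : ∀ χ : IrrCharacter G, ¬ 3 ∣ Char.degree χ → Char.degree χ ∣ 2 ^ a * q ^ b := by
    intro χ h
    have h' := Char.degree_dvd_natCard χ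
    rw [hcard, mul_assoc] at h'
    exact ((Nat.Coprime.pow_left 2 (Nat.prime_three.coprime_iff_not_dvd.2 h)).symm).dvd_of_dvd_mul_left
      (show Char.degree χ ∣ 3 ^ 2 * (2 ^ a * q ^ b) by norm_num; exact h')
  obtain ⟨i, hi⟩ := consecutive hq hq2 hq3 h1 (hd χ₁ hn1) (h21 ▸ hd χ₂ hn2)
  obtain ⟨χq, χi, hχq, hχi, hqi⟩ : ∃ χq χi : IrrCharacter G, Char.degree χq = q ∧
      Char.degree χi = 2 ^ i ∧ (q = 2 ^ i + 1 ∨ q + 1 = 2 ^ i) := by
    rcases hi with ⟨h, h'⟩ | ⟨h, h'⟩
    · exact ⟨χ₂, χ₁, by omega, h', Or.inl h⟩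
    · exact ⟨χ₁, χ₂, h', by omega, Or.inr h⟩
  let P : Sylow q G := default
  obtain ⟨hPq, hPc⟩ := sylow_of_prime_degree hna χq hχq P
  have hb : b = 1 := by
    have h := P.card_eq_multiplicity
    rw [hPq, hcard, Nat.factorization_mul (by positivity) (pow_ne_zero _ hq.ne_zero),
      Finsupp.add_apply, hq.factorization_pow, Finsupp.single_eq_same,
      Nat.factorization_eq_zero_of_not_dvd (fun h => ?_), zero_add] at h
    · exact (Nat.pow_right_injective hq.two_le (show q ^ 1 = q ^ b by rw [pow_one]; exact h)).symm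
    · rcases hq.dvd_mul.1 h with h | h
      · exact hq3 ((Nat.prime_dvd_prime_iff_eq hq Nat.prime_three).1
          (hq.dvd_of_dvd_pow (show q ∣ 3 ^ 2 by norm_num; exact h)))
      · exact hq2 ((Nat.prime_dvd_prime_iff_eq hq Nat.prime_two).1 (hq.dvd_of_dvd_pow h))
  subst hb
  rw [pow_one] at hcard
  obtain ⟨M, hM⟩ := CharInt.exists_isPModular_of_prime hq
  let D : Setting G q a :=
    ⟨hna, hcard, hq2, hq3, P, ⟨hPq, hPc⟩, M, hM.2.1, hM.2.2⟩
  have hodd : q % 2 = 1 := hq.eq_two_or_odd.resolve_left hq2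
  have hq5 : 5 ≤ q := by
    have := hq.two_le
    rcases lt_or_ge q 5 with h | h
    · interval_cases q <;> first | omega | exact absurd hq (by decide)
    · exact h
  have hia : i ≤ a := by
    refine (Nat.pow_dvd_pow_iff_le_right (show 1 < 2 by norm_num)).1 ?_
    have h := hd χi (by
      rw [hχi]
      exact fun h => absurd (Nat.prime_three.dvd_of_dvd_pow h) (by norm_num))
    rw [hχi, pow_one] at h
    exact (Nat.Coprime.pow_left i
      ((Nat.coprime_primes Nat.prime_two hq).2 (Ne.symm hq2))).dvd_of_dvd_mul_right h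
  have hi2 : 2 ≤ i := by
    by_contra h
    interval_cases i <;> omega
  obtain ⟨v, hv, hvo⟩ := exists_central_involution (G := G) (by
    rw [hcard]
    exact ((dvd_pow_self 2 (show a ≠ 0 by omega)).mul_left 9).mul_right q)
  rcases (show i = 2 ∨ i = 3 ∨ i = 4 ∨ 5 ≤ i by omega) with rfl | rfl | rfl | hi5
  · rcases hqi with h | h <;> norm_num at h
    · subst h
      exact (five D (by rw [hχi]; norm_num) hia hv hvo).elim
    · omega
  · rcases hqi with h | h <;> norm_num at h
    · subst h; norm_num at hq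
    · obtain rfl : q = 7 := by omega
      obtain rfl := seven D (by rw [hχi]; norm_num) hia hv hvo
      exact Or.inl (by rw [hcard]; norm_num)
  · rcases hqi with h | h <;> norm_num at h
    · subst h
      obtain rfl := seventeen D (by rw [hχi]; norm_num) hia hv hvo
      exact Or.inr (by rw [hcard]; norm_num)
    · obtain rfl : q = 15 := by omega
      norm_num at hq
  · rcases hqi with h | h
    · exact (fermat_false D hi5 h).elim
    · exact (mersenne_false D hi5 h hia).elim

end Cfsg.Agent.NineTwoQ
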