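import Cfsg.Agent.Lib.Blocks.PrimePowerDegree
import Cfsg.Agent.Lib.CharInt.Central
import Cfsg.Agent.Lib.Char.Linear
import Cfsg.Agent.Lib.Char.PRegular

/-!
# Simple groups with a character of prime degree

In a non-abelian simple group with an irreducible character of prime degree `q` a Sylow
`q`-subgroup has order `q` and is its own centraliser.
-/

set_option autoImplicit false
set_option linter.style.haveILetI false
set_option linter.unusedSectionVars false

namespace Cfsg.Agent.NineTwoQ

open Cfsg Cfsg.Agent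
open scoped ComplexConjugate Classical

universe u

variable {G : Type u} [Group G] [Fintype G] [IsSimpleGroup G]
  (hna : ∃ a b : G, a * b ≠ b * a) {q : ℕ} [hq : Fact q.Prime]

include hna

theorem degree_ne_one {χ : IrrCharacter G} (hne : χ ≠ Char.trivialChar G) : Char.degree χ ≠ 1 :=
  fun h => hne (Blocks.eq_trivial_of_degree_one hna χ (by
    rw [Char.apply_one_eq_degree, h, Nat.cast_one]))

theorem one_lt_degree {χ : IrrCharacter G} (hne : χ ≠ Char.trivialChar G) : 1 < Char.degree χ :=
  lt_of_le_of_ne (Char.degree_pos χ) (Ne.symm (degree_ne_one hna hne))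

theorem ne_trivial_of_degree {χ : IrrCharacter G} (h : Char.degree χ ≠ 1) :
    χ ≠ Char.trivialChar G := by
  rintro rfl
  apply h
  have := Char.apply_one_eq_degree (Char.trivialChar G)
  rw [Char.trivialChar_apply] at this
  exact_mod_cast this.symm

/-- A scalar element is trivial. -/
theorem eq_one_of_norm {χ : IrrCharacter G} (hne : χ ≠ Char.trivialChar G) {g : G}
    (h : ‖χ.1 g‖ = ‖χ.1 1‖) : g = 1 := by
  have hc := CharInt.mem_center_of_norm_eq χ.2 (fun he => hne (Subtype.ext he)) h
  rwa [Blocks.center_eq_bot hna, Subgroup.mem_bot] at hc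

/-- A class of size prime to the degree: zero value. -/
theorem apply_eq_zero_of_coprime {χ : IrrCharacter G} (hne : χ ≠ Char.trivialChar G) {g : G}
    (hg : g ≠ 1)
    (hco : (Subgroup.centralizer ({g} : Set G)).index.Coprime (Char.degree χ)) : χ.1 g = 0 := by
  obtain ⟨n, ρ, hρ, hρχ⟩ := χ.2
  have hn : Char.degree χ = n := by
    have := Char.apply_one_eq_degree χ
    rw [← hρχ, ρ.char_one, Module.finrank_fin_fun] at this
    exact_mod_cast this.symm
  haveI := hρ
  rcases CharInt.character_eq_zero_or_norm_eq ρ g (by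
    rw [CharInt.natCard_isConj, Module.finrank_fin_fun, ← hn]
    exact hco.symm) with h | h
  · rw [← hρχ]; exact h
  · exact absurd (eq_one_of_norm hna hne (by
      rw [← hρχ, h, ρ.char_one, Complex.norm_natCast])) hg

omit [IsSimpleGroup G] hna in
/-- Summing a character that vanishes off `1` on a subgroup. -/
theorem classInner_of_vanish (χ : IrrCharacter G) (A : Subgroup G)
    (hv : ∀ w ∈ A, w ≠ 1 → χ.1 w = 0) (f : A → ℂ) :
    classInner (fun w : A => χ.1 w) f = (Nat.card A : ℂ)⁻¹ * ((Char.degree χ : ℂ) * conj (f 1)) := by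
  rw [classInner, Finset.sum_eq_single (1 : A)]
  · rw [Subgroup.coe_one, Char.apply_one_eq_degree]
  · intro w _ hw
    rw [hv w w.2 (fun e => hw (Subtype.ext e)), zero_mul]
  · simp

omit [IsSimpleGroup G] hna in
theorem card_dvd_of_vanish (χ : IrrCharacter G) (A : Subgroup G)
    (hv : ∀ w ∈ A, w ≠ 1 → χ.1 w = 0) : Nat.card A ∣ Char.degree χ := by
  obtain ⟨n, hn⟩ := Char.IsCharacter.exists_nat_classInner
    (Char.IsCharacter.restrict (Char.irr_isCharacter χ) A)
    (Char.irr_isCharacter (Char.trivialChar A))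
  rw [classInner_of_vanish χ A hv, Char.trivialChar_apply, map_one, mul_one,
    inv_mul_eq_iff_eq_mul₀ (Nat.cast_ne_zero.2 Nat.card_pos.ne')] at hn
  exact ⟨n, by exact_mod_cast hn⟩

/-- The Sylow `q`-subgroup of a group with a character of degree `q`. -/
theorem sylow_of_prime_degree (χ : IrrCharacter G) (hX : Char.degree χ = q) (P : Sylow q G) :
    Nat.card P = q ∧ Subgroup.centralizer ((P : Subgroup G) : Set G) = (P : Subgroup G) := by
  have hne : χ ≠ Char.trivialChar G := ne_trivial_of_degree hna (by rw [hX]; exact hq.out.ne_one)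
  have hqG : q ∣ Nat.card G := hX ▸ Char.degree_dvd_natCard χ
  haveI : Nontrivial (P : Subgroup G) :=
    (Subgroup.nontrivial_iff_ne_bot _).2 (P.ne_bot_of_dvd_card hqG)
  haveI := P.isPGroup'.center_nontrivial
  obtain ⟨z₀, hz₀⟩ := exists_ne (1 : Subgroup.center (P : Subgroup G))
  set z : G := ((z₀ : (P : Subgroup G)) : G) with hzdef
  have hz1 : z ≠ 1 := fun h => hz₀ (Subtype.ext (Subtype.ext h))
  have hzP : z ∈ (P : Subgroup G) := (z₀ : (P : Subgroup G)).2
  set C := Subgroup.centralizer ({z} : Set G) with hC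

  have hPC : (P : Subgroup G) ≤ C := fun w hw => Subgroup.mem_centralizer_singleton_iff.2
    (congrArg Subtype.val (Subgroup.mem_center_iff.1 z₀.2 ⟨w, hw⟩))
  set A := Subgroup.zpowers z with hA

  have hvan : ∀ w : G, w ≠ 1 → (P : Subgroup G) ≤ Subgroup.centralizer ({w} : Set G) →
      χ.1 w = 0 := by
    intro w hw hle
    refine apply_eq_zero_of_coprime hna hne hw ?_
    rw [hX]
    exact ((hq.out.coprime_iff_not_dvd).2 fun hd =>
      P.not_dvd_index (hd.trans (Subgroup.index_dvd_of_le hle))).symm
  have hvA : ∀ w ∈ A, w ≠ 1 → χ.1 w = 0 := by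
    intro w hw hw1
    refine hvan w hw1 fun y hy => Subgroup.mem_centralizer_singleton_iff.2 ?_
    obtain ⟨i, rfl⟩ := Subgroup.mem_zpowers_iff.1 hw
    exact (Commute.zpow_right (Subgroup.mem_centralizer_singleton_iff.1 (hPC hy) : Commute y z) i).eq
  have hzord : orderOf z = q := by
    have h1 := card_dvd_of_vanish χ A hvA
    rw [hX, hA, Nat.card_zpowers] at h1
    exact ((Nat.dvd_prime hq.out).1 h1).resolve_left fun h => hz1 (orderOf_eq_one_iff.1 h)
  have hAcard : Nat.card A = q := by rw [hA, Nat.card_zpowers, hzord]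
  -- constituents of the restriction to `C`
  have hres := Char.IsCharacter.restrict (Char.irr_isCharacter χ) C
  obtain ⟨n, hn, -⟩ := Char.IsCharacter.exists_decomp hres
  have hAC : A ≤ C := Subgroup.zpowers_le.2 (hPC hzP)
  let j : A →* C := Subgroup.inclusion hAC
  have hinner : ∀ η : IrrCharacter C, ((Char.degree η : ℂ)) =
      ∑ μ : IrrCharacter C, (n μ : ℂ) * classInner (fun w : A => μ.1 (j w)) (fun w : A => η.1 (j w)) := by
    intro η
    have h1 := classInner_of_vanish χ A hvA (fun w : A => η.1 (j w))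
    rw [hX, hAcard, map_one, Char.apply_one_eq_degree, map_natCast,
      inv_mul_cancel_left₀ (Nat.cast_ne_zero.2 hq.out.ne_zero)] at h1
    rw [← h1]
    have h2 : (fun w : A => χ.1 w) = ∑ μ : IrrCharacter C, (n μ : ℂ) • fun w : A => μ.1 (j w) := by
      funext w
      have := congrFun hn (j w)
      simp only [Finset.sum_apply, Pi.smul_apply] at this ⊢
      exact this
    rw [h2, Char.classInner_sum_left]
    exact Finset.sum_congr rfl fun μ _ => Char.classInner_smul_left _ _ _
  have hscal : ∀ η : IrrCharacter C, ∀ w : A, η.1 (j w) * conj (η.1 (j w)) =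
      ((Char.degree η : ℂ)) ^ 2 := by
    intro η w
    obtain ⟨m, ρ, hρ, hρη⟩ := η.2
    haveI := hρ
    have hcen : j w ∈ Subgroup.center C := by
      refine Subgroup.mem_center_iff.2 fun y => Subtype.ext ?_
      obtain ⟨i, hi⟩ := Subgroup.mem_zpowers_iff.1 w.2
      show (y : G) * (w : G) = (w : G) * (y : G)
      rw [← hi]
      exact (Commute.zpow_right (Subgroup.mem_centralizer_singleton_iff.1 y.2 : Commute (y : G) z) i).eq
    obtain ⟨a, ha⟩ := CharInt.exists_smul_one_of_mem_center ρ hcen
    have hnorm : ‖η.1 (j w)‖ = ‖η.1 1‖ := by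
      rw [← hρη]
      exact (CharInt.norm_eq_iff_scalar ρ (j w)).2 ⟨a, ha⟩
    rw [Complex.mul_conj', hnorm, Char.apply_one_eq_degree, Complex.norm_natCast]
    push_cast
    ring
  have hkey : ∀ η : IrrCharacter C, n η ≠ 0 → Char.degree η = 1 ∧ n η = 1 ∧
      ∀ μ, μ ≠ η → n μ ≠ 0 →
        classInner (fun w : A => μ.1 (j w)) (fun w : A => η.1 (j w)) = 0 := by
    intro η hη
    choose k hk using fun μ : IrrCharacter C => Char.IsCharacter.exists_nat_classInner
      (Char.IsCharacter.comp (Char.irr_isCharacter μ) j)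
      (Char.IsCharacter.comp (Char.irr_isCharacter η) j)
    have hkη : k η = Char.degree η ^ 2 := by
      have h1 := hk η
      rw [classInner] at h1

      rw [Finset.sum_congr rfl fun w _ => hscal η w, Finset.sum_const, Finset.card_univ,
        ← Nat.card_eq_fintype_card, hAcard, nsmul_eq_mul, ← mul_assoc,
        inv_mul_cancel₀ (Nat.cast_ne_zero.2 hq.out.ne_zero), one_mul] at h1
      exact_mod_cast h1.symm
    have h1 : Char.degree η = ∑ μ, n μ * k μ := by
      have := hinner η
      rw [Finset.sum_congr rfl fun μ _ => by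
        rw [show classInner (fun w : A => μ.1 (j w)) (fun w : A => η.1 (j w)) = (k μ : ℂ) from hk μ]]
        at this
      exact_mod_cast this
    rw [← Finset.add_sum_erase _ _ (Finset.mem_univ η), hkη] at h1
    have hd := Char.degree_pos η
    have h2 : n η * Char.degree η ^ 2 ≤ Char.degree η := by omega
    have h3 : n η * Char.degree η ≤ 1 := by
      refine Nat.le_of_mul_le_mul_right ?_ hd
      rw [one_mul, mul_assoc, ← pow_two]
      exact h2
    have h4 : Char.degree η ≤ n η * Char.degree η :=
      Nat.le_mul_of_pos_left _ (Nat.pos_of_ne_zero hη)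
    have hd1 : Char.degree η = 1 := by omega
    rw [hd1] at h3 h1
    refine ⟨hd1, by omega, fun μ hμ hμn => ?_⟩
    have hz : ∑ μ ∈ Finset.univ.erase η, n μ * k μ = 0 := by
      have : n η = 1 := by omega
      rw [this] at h1
      omega
    have := (Finset.sum_eq_zero_iff.1 hz) μ (Finset.mem_erase.2 ⟨hμ, Finset.mem_univ _⟩)
    rw [show classInner (fun w : A => μ.1 (j w)) (fun w : A => η.1 (j w)) = (k μ : ℂ) from hk μ,
      (Nat.mul_eq_zero.1 this).resolve_left hμn, Nat.cast_zero]
  -- all constituents are linear, so `C` is abelian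
  have hlin : ∀ η : IrrCharacter C, n η ≠ 0 → ∃ lam : C →* ℂ, (lam : C → ℂ) = η.1 := fun η hη =>
    Char.IsCharacter.exists_monoidHom (Char.irr_isCharacter η) (by
      rw [Char.apply_one_eq_degree, (hkey η hη).1, Nat.cast_one])
  have hcomm : ∀ a b : C, a * b = b * a := by
    intro a b
    have h1 : χ.1 ((a * b * a⁻¹ * b⁻¹ : C) : G) = χ.1 ((1 : C) : G) := by
      have e1 := congrFun hn (a * b * a⁻¹ * b⁻¹)
      have e2 := congrFun hn 1
      simp only [Finset.sum_apply, Pi.smul_apply, smul_eq_mul] at e1 e2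
      rw [e1, e2]
      refine Finset.sum_congr rfl fun η _ => ?_
      by_cases hη : n η = 0
      · simp [hη]
      obtain ⟨lam, hlam⟩ := hlin η hη
      rw [← hlam, map_one]
      congr 1
      have ha : lam a * lam a⁻¹ = 1 := by rw [← map_mul, mul_inv_cancel, map_one]
      have hb : lam b * lam b⁻¹ = 1 := by rw [← map_mul, mul_inv_cancel, map_one]
      rw [map_mul, map_mul, map_mul]
      linear_combination (lam b * lam b⁻¹) * ha + hb
    have h2 : ((a * b * a⁻¹ * b⁻¹ : C) : G) = 1 := eq_one_of_norm hna hne (by rw [h1]; simp)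
    have h3 : a * b * a⁻¹ * b⁻¹ = 1 := Subtype.ext h2
    rwa [mul_inv_eq_one, mul_inv_eq_iff_eq_mul] at h3
  have hPcard : Nat.card P = q := by
    have hv : ∀ w ∈ (P : Subgroup G), w ≠ 1 → χ.1 w = 0 := fun w hw hw1 =>
      hvan w hw1 fun y hy => Subgroup.mem_centralizer_singleton_iff.2
        (congrArg Subtype.val (hcomm ⟨y, hPC hy⟩ ⟨w, hPC hw⟩))
    have h1 := card_dvd_of_vanish χ (P : Subgroup G) hv
    rw [hX] at h1
    exact ((Nat.dvd_prime hq.out).1 h1).resolve_left
      (Subgroup.one_lt_card_iff_ne_bot _ |>.2 (P.ne_bot_of_dvd_card hqG)).ne'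
  refine ⟨hPcard, ?_⟩
  obtain ⟨M, hM⟩ := CharInt.exists_isPModular_of_prime hq.out
  haveI := hM.2.1
  have hfac : (Nat.card G).factorization q = 1 := by
    have h := P.card_eq_multiplicity
    rw [show Nat.card P = q from hPcard] at h
    have : q ^ 1 = q ^ (Nat.card G).factorization q := by rw [pow_one]; exact h
    exact (Nat.pow_right_injective hq.out.two_le this).symm
  have hsing : ∀ g : G, q ∣ orderOf g → χ.1 g = 0 := fun g hg =>
    Blocks.apply_eq_zero_of_defect_zero hM.2.2 χ
      (by rw [hX, hq.out.factorization_self, hfac]) (fun h => h hg)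
  -- no regular elements in `C`
  have hreg : ∀ g : C, ¬ q ∣ orderOf (g : G) → g = 1 := by
    intro g hg
    obtain ⟨η, hη⟩ : ∃ η, n η ≠ 0 := by
      by_contra hno
      push Not at hno
      have := congrFun hn 1
      simp only [Finset.sum_apply, Pi.smul_apply, smul_eq_mul, hno, Nat.cast_zero, zero_mul,
        Finset.sum_const_zero, Subgroup.coe_one, Char.apply_one_eq_degree] at this
      exact (Char.degree_pos χ).ne' (by exact_mod_cast this)
    obtain ⟨hd1, hn1, horth⟩ := hkey η hη
    have h1 : ∑ w : A, χ.1 ((g * j w : C) : G) * conj (η.1 (j w)) = χ.1 (g : G) := by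
      rw [Finset.sum_eq_single (1 : A)]
      · rw [map_one, mul_one, Char.apply_one_eq_degree, hd1, Nat.cast_one, map_one, mul_one]
      · intro w _ hw
        have hw1 : (w : G) ≠ 1 := fun e => hw (Subtype.ext e)
        have hc : Commute (g : G) (w : G) := by
          obtain ⟨i, hi⟩ := Subgroup.mem_zpowers_iff.1 w.2
          rw [← hi]
          exact Commute.zpow_right (Subgroup.mem_centralizer_singleton_iff.1 g.2 : Commute (g : G) z) i
        have hwo : orderOf (w : G) = q := ((Nat.dvd_prime hq.out).1 (by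
          rw [← hAcard, Subgroup.orderOf_coe]; exact orderOf_dvd_natCard _)).resolve_left
          fun h => hw1 (orderOf_eq_one_iff.1 h)
        rw [hsing ((g * j w : C) : G) (by
          show q ∣ orderOf ((g : G) * (w : G))
          rw [hc.orderOf_mul_eq_mul_orderOf_of_coprime (by
            rw [hwo]; exact ((hq.out.coprime_iff_not_dvd).2 hg).symm), hwo]
          exact dvd_mul_left q _), zero_mul]
      · simp
    have h2 : ∑ w : A, χ.1 ((g * j w : C) : G) * conj (η.1 (j w)) = (q : ℂ) * η.1 g := by
      have hpt : ∀ w : A, χ.1 ((g * j w : C) : G) =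
          ∑ μ : IrrCharacter C, (n μ : ℂ) * (μ.1 g * μ.1 (j w)) := by
        intro w
        have := congrFun hn (g * j w)
        simp only [Finset.sum_apply, Pi.smul_apply, smul_eq_mul] at this
        rw [this]
        refine Finset.sum_congr rfl fun μ _ => ?_
        by_cases hμ : n μ = 0
        · simp [hμ]
        obtain ⟨lam, hlam⟩ := hlin μ hμ
        rw [← hlam, map_mul]
      simp only [hpt, Finset.sum_mul]
      rw [Finset.sum_comm, Finset.sum_eq_single η]
      · have : ∀ w : A, (n η : ℂ) * (η.1 g * η.1 (j w)) * conj (η.1 (j w)) = η.1 g := fun w => by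
          rw [hn1, Nat.cast_one, one_mul, mul_assoc, hscal, hd1, Nat.cast_one, one_pow, mul_one]
        rw [Finset.sum_congr rfl fun w _ => this w, Finset.sum_const, Finset.card_univ,
          ← Nat.card_eq_fintype_card, hAcard, nsmul_eq_mul]
      · intro μ _ hμ
        by_cases hμn : n μ = 0
        · simp [hμn]
        have h := horth μ hμ hμn
        rw [classInner, mul_eq_zero, or_iff_right (by simp [Nat.card_pos.ne'])] at h
        calc ∑ w : A, (n μ : ℂ) * (μ.1 g * μ.1 (j w)) * conj (η.1 (j w))
            = (n μ : ℂ) * μ.1 g * ∑ w : A, μ.1 (j w) * conj (η.1 (j w)) := by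
              rw [Finset.mul_sum]; exact Finset.sum_congr rfl fun w _ => by ring
          _ = 0 := by rw [h, mul_zero]
      · simp
    refine Subtype.ext (eq_one_of_norm hna hne ?_)
    rw [← h1, h2, Char.apply_one_eq_degree, hX, norm_mul]
    obtain ⟨lam, hlam⟩ := hlin η hη
    have h5 : ‖η.1 g‖ = 1 := by
      have := Char.normSq_linear lam g
      rw [hlam, Complex.mul_conj'] at this
      have h6 : ‖η.1 g‖ ^ 2 = 1 := by exact_mod_cast this
      nlinarith [norm_nonneg (η.1 g)]
    rw [h5, mul_one]
  have hCp : IsPGroup q C := by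
    refine IsPGroup.of_card (p := q) (n := (Nat.card C).primeFactorsList.length)
      (Nat.eq_prime_pow_of_unique_prime_dvd Nat.card_pos.ne' ?_)
    intro r hr hrd
    by_contra hne'
    haveI := Fact.mk hr
    obtain ⟨g, hg⟩ := exists_prime_orderOf_dvd_card' r hrd
    have := hreg g (by
      rw [Subgroup.orderOf_coe, hg]
      exact fun h => hne' ((Nat.prime_dvd_prime_iff_eq hq.out hr).1 h).symm)
    rw [this, orderOf_one] at hg
    exact hr.ne_one hg.symm
  refine le_antisymm (fun g hg => ?_) fun g hg => ?_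
  · have hgC : g ∈ C := Subgroup.mem_centralizer_singleton_iff.2
      ((Subgroup.mem_centralizer_iff.1 hg z hzP).symm)
    rw [P.is_maximal' hCp hPC] at hgC
    exact hgC
  · exact Subgroup.mem_centralizer_iff.2 fun y hy =>
      congrArg Subtype.val (hcomm ⟨y, hPC hy⟩ ⟨g, hPC hg⟩)

end Cfsg.Agent.NineTwoQ
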