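import Cfsg.Agent.Lib.NineTwoQ.PrimeDegree
import Cfsg.Agent.Lib.DefectOne.SelfCent
import Cfsg.Agent.Lib.Exceptional.ClassPairs
import Cfsg.Agent.Lib.Transfer.Burnside
import Cfsg.Agent.Lib.CharInt.Eigen
import Cfsg.Agent.Lib.Char.ClassSum

/-!
# A simple group of order `9 · 2^a · q` with self-centralising Sylow `q`-subgroup
-/

set_option autoImplicit false
set_option linter.style.haveILetI false
set_option linter.unusedSectionVars false

namespace Cfsg.Agent.NineTwoQ

open Cfsg Cfsg.Agent
open scoped ComplexConjugate Classical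

universe u

variable {G : Type u} [Group G] [Fintype G]

/-- The size of a set stable under right multiplication by a subgroup. -/
theorem card_dvd_of_mul_mem {K : Type u} [Group K] (H : Subgroup K) (S : Set K)
    (h : ∀ s ∈ S, ∀ k ∈ H, s * k ∈ S) : Nat.card H ∣ Nat.card S := by
  set t : Set (K ⧸ H) := QuotientGroup.mk '' S with ht
  have hS : QuotientGroup.mk ⁻¹' t = S := by
    refine Set.Subset.antisymm ?_ (Set.subset_preimage_image _ _)
    rintro x ⟨s, hs, he⟩
    have := h s hs _ (QuotientGroup.eq.1 he)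
    rwa [mul_inv_cancel_left] at this
  rw [← hS, Nat.card_congr (QuotientGroup.preimageMkEquivSubgroupProdSet H t), Nat.card_prod]
  exact dvd_mul_right _ _

/-- A central involution of a Sylow 2-subgroup. -/
theorem exists_central_involution (hd : 2 ∣ Nat.card G) :
    ∃ v : G, orderOf v = 2 ∧ ¬ 2 ∣ (Subgroup.centralizer ({v} : Set G)).index := by
  haveI : Fact (Nat.Prime 2) := ⟨Nat.prime_two⟩
  let P : Sylow 2 G := default
  haveI : Nontrivial (P : Subgroup G) :=
    (Subgroup.nontrivial_iff_ne_bot _).2 (P.ne_bot_of_dvd_card hd)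
  haveI := P.isPGroup'.center_nontrivial
  obtain ⟨k, hk⟩ := IsPGroup.iff_card.1 (P.isPGroup'.to_subgroup (Subgroup.center (P : Subgroup G)))
  have h2 : 2 ∣ Nat.card (Subgroup.center (P : Subgroup G)) := by
    rw [hk]
    refine dvd_pow_self 2 fun h0 => ?_
    rw [h0, pow_zero] at hk
    exact absurd (Finite.one_lt_card (α := Subgroup.center (P : Subgroup G))) (by omega)
  obtain ⟨z, hz⟩ := exists_prime_orderOf_dvd_card' 2 h2
  refine ⟨((z : (P : Subgroup G)) : G), by rw [Subgroup.orderOf_coe, Subgroup.orderOf_coe, hz],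
    fun hdiv => P.not_dvd_index (hdiv.trans (Subgroup.index_dvd_of_le fun w hw => ?_))⟩
  exact Subgroup.mem_centralizer_singleton_iff.2
    (congrArg Subtype.val (Subgroup.mem_center_iff.1 z.2 ⟨w, hw⟩))

/-- Values at an element with class of size prime to a divisor of the degree. -/
theorem dvd_int_value {χ : IrrCharacter G} {g : G} {k : ℤ} (hk : χ.1 g = k) {d : ℕ}
    (hd : d ∣ Char.degree χ) (hco : (Subgroup.centralizer ({g} : Set G)).index.Coprime d) :
    (d : ℤ) ∣ k := by
  obtain ⟨n, ρ, hρ, hρχ⟩ := χ.2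
  haveI := hρ
  have hn : Char.degree χ = n := by
    have := Char.apply_one_eq_degree χ
    rw [← hρχ, ρ.char_one, Module.finrank_fin_fun] at this
    exact_mod_cast this.symm
  have h := CharInt.isIntegral_omega ρ g
  rw [CharInt.natCard_isConj, Module.finrank_fin_fun, hρχ, hk, ← hn] at h
  set i := (Subgroup.centralizer ({g} : Set G)).index with hi
  have hd0 : (Char.degree χ : ℂ) ≠ 0 := Nat.cast_ne_zero.2 (Char.degree_pos χ).ne'
  obtain ⟨z, hz⟩ := Char.exists_int_of_isIntegral_mul h (c := (Char.degree χ : ℤ)) (N := (i : ℤ) * k)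
    (Int.natCast_ne_zero.2 (Char.degree_pos χ).ne')
    (by push_cast; field_simp)
  rw [div_eq_iff hd0] at hz
  have h2 : (i : ℤ) * k = z * Char.degree χ := by exact_mod_cast hz
  have h3 : (d : ℤ) ∣ (i : ℤ) * k := by
    rw [h2]; exact Dvd.dvd.mul_left (by exact_mod_cast hd) z
  exact (Int.isCoprime_iff_nat_coprime.2 (by simpa using hco.symm)).dvd_of_dvd_mul_left h3

variable [IsSimpleGroup G] {q a : ℕ} [hq : Fact q.Prime] {P : Sylow q G}
  {M : Ideal AlgInt} [M.IsMaximal]

theorem apply_eq_zero_two_pow (hna : ∃ a b : G, a * b ≠ b * a) {v : G} (hv : orderOf v = 2)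
    (hodd : ¬ 2 ∣ (Subgroup.centralizer ({v} : Set G)).index) {χ : IrrCharacter G} {u : ℕ}
    (hne : χ ≠ Char.trivialChar G) (hdeg : Char.degree χ = 2 ^ u) : χ.1 v = 0 := by
  refine apply_eq_zero_of_coprime hna hne (fun h => by simp [h] at hv) ?_
  rw [hdeg]
  exact Nat.Coprime.pow_right u ((Nat.prime_two.coprime_iff_not_dvd).2 hodd).symm

/-- Numerical facts on the normaliser of `P`. -/
theorem normalizer_facts (hna : ∃ a b : G, a * b ≠ b * a) (hq2 : q ≠ 2) (hq3 : q ≠ 3)
    (hcard : Nat.card G = 9 * 2 ^ a * q) (hSC : DefectOne.SelfCent P) {m : ℕ}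
    (hm : (Subgroup.centralizer ((P : Subgroup G) : Set G)).relIndex
      (Subgroup.normalizer ((P : Subgroup G) : Set G)) = m) :
    2 ≤ m ∧ m ∣ 9 * 2 ^ a ∧ ∃ k : ℕ, 9 * 2 ^ a = m * k ∧ k % q = 1 := by
  set C := Subgroup.centralizer ((P : Subgroup G) : Set G) with hC
  set N := Subgroup.normalizer ((P : Subgroup G) : Set G) with hN
  have hN' : Nat.card N = q * m := by
    rw [← Subgroup.card_mul_index (C.subgroupOf N), ← hm,
      Nat.card_congr (Subgroup.subgroupOfEquivOfLe (Subgroup.centralizer_le_normalizer _)).toEquiv,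
      hC, hSC.cent, show Nat.card (P : Subgroup G) = q from hSC.card]
    rfl
  have hn := Sylow.card_eq_index_normalizer P
  have hmod : Nat.card (Sylow q G) ≡ 1 [MOD q] := card_sylow_modEq_one q G
  have hmul : q * m * Nat.card (Sylow q G) = q * (9 * 2 ^ a) := by
    rw [← hN', hn]
    show Nat.card N * N.index = _
    rw [Subgroup.card_mul_index, hcard]; ring
  rw [mul_assoc] at hmul
  have hk := Nat.eq_of_mul_eq_mul_left hq.out.pos hmul
  refine ⟨?_, Dvd.intro _ hk, _, hk.symm, ?_⟩
  · by_contra hlt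
    have hm1 : m = 1 := by
      have : m ≠ 0 := fun h => by
        rw [h, zero_mul] at hk
        simp at hk
      omega
    have hNC : N ≤ C := Subgroup.relIndex_eq_one.1 (hm.trans hm1)
    obtain ⟨S, K, hK, hKc⟩ := Transfer.hasNormalPComplement_of_normalizer_le_centralizer P hNC
    haveI := hK
    have h1 := hKc.card_mul
    rw [S.card_eq_multiplicity, ← P.card_eq_multiplicity, show Nat.card P = q from hSC.card,
      hcard] at h1
    rcases (hK.eq_bot_or_eq_top) with h | h
    · rw [h, Subgroup.card_bot, one_mul] at h1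
      have : (1 : ℕ) * q < 9 * 2 ^ a * q :=
        Nat.mul_lt_mul_of_pos_right (by have := Nat.two_pow_pos a; omega) hq.out.pos
      omega
    · rw [h, Subgroup.card_top, hcard] at h1
      have h2 : 9 * 2 ^ a * q * q = 9 * 2 ^ a * q * 1 := by linarith
      exact hq.out.ne_one (Nat.eq_of_mul_eq_mul_left (by have := hq.out.pos; positivity) h2)
  · rw [Nat.ModEq, Nat.mod_eq_of_lt hq.out.one_lt] at hmod
    exact hmod

/-- Degrees prime to `q`. -/
theorem degree_form (hq2 : q ≠ 2) (hcard : Nat.card G = 9 * 2 ^ a * q) (χ : IrrCharacter G)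
    (hqd : ¬ q ∣ Char.degree χ) :
    ∃ s u : ℕ, s ≤ 2 ∧ u ≤ a ∧ Char.degree χ = 3 ^ s * 2 ^ u := by
  have h := Char.degree_dvd_natCard χ
  rw [hcard] at h
  have h2 : Char.degree χ ∣ 3 ^ 2 * 2 ^ a := by
    refine Nat.Coprime.dvd_of_dvd_mul_right ((hq.out.coprime_iff_not_dvd.2 hqd).symm) ?_
    norm_num
    exact h
  obtain ⟨x, y, hx, hy, hxy⟩ := Nat.dvd_mul.1 h2
  obtain ⟨s, hs, rfl⟩ := (Nat.dvd_prime_pow Nat.prime_three).1 hx
  obtain ⟨u, hu, rfl⟩ := (Nat.dvd_prime_pow Nat.prime_two).1 hy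
  exact ⟨s, u, hs, hu, hxy.symm⟩

theorem degree_trivial : Char.degree (Char.trivialChar G) = 1 := by
  have := Char.apply_one_eq_degree (Char.trivialChar G)
  rw [Char.trivialChar_apply] at this
  exact_mod_cast this.symm

theorem exists_ne_one_mem (hSC : DefectOne.SelfCent P) : ∃ y : (P : Subgroup G), y ≠ 1 := by
  haveI : Nontrivial (P : Subgroup G) := Finite.one_lt_card_iff_nontrivial.1
    (by rw [show Nat.card (P : Subgroup G) = q from hSC.card]; exact hq.out.one_lt)
  exact exists_ne 1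

theorem trivial_mem_X (hna : ∃ a b : G, a * b ≠ b * a) {m : ℕ} (S : DefectOne.PrimeShape P M m)
    (ht : 2 ≤ (q - 1) / m) : Char.trivialChar G ∈ S.X := by
  refine (DefectOne.PrimeShape.mem_XY S (Blocks.trivial_mem_principalBlock)).resolve_right fun hY => ?_
  obtain ⟨θ, hθ, hne⟩ := Finset.exists_mem_ne (s := S.Y) (by rw [S.cardY]; omega) (Char.trivialChar G)
  exact degree_ne_one hna hne ((S.degree_eq hθ hY).trans degree_trivial)

theorem eX_trivial {m : ℕ} (hSC : DefectOne.SelfCent P) (S : DefectOne.PrimeShape P M m)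
    (h : Char.trivialChar G ∈ S.X) : S.εX (Char.trivialChar G) = 1 := by
  obtain ⟨y, hy⟩ := exists_ne_one_mem hSC
  have := S.X_val _ h y hy
  rw [Char.trivialChar_apply] at this
  exact_mod_cast this.symm

theorem not_dvd_degree_X {m : ℕ} (S : DefectOne.PrimeShape P M m) {χ : IrrCharacter G}
    (hχ : χ ∈ S.X) : ¬ q ∣ Char.degree χ := by
  intro hd
  have h2 := (S.X_deg' hχ).symm.trans (Int.modEq_zero_iff_dvd.2 (by exact_mod_cast hd))
  rw [Int.modEq_zero_iff_dvd] at h2
  have hlt : (1 : ℤ) < q := by exact_mod_cast hq.out.one_lt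
  rcases S.hεX χ hχ with e | e <;> rw [e] at h2
  · exact absurd (Int.le_of_dvd one_pos h2) (by linarith)
  · rw [dvd_neg] at h2
    exact absurd (Int.le_of_dvd one_pos h2) (by linarith)

theorem not_dvd_degree_Y {m : ℕ} (S : DefectOne.PrimeShape P M m) {θ : IrrCharacter G}
    (hθ : θ ∈ S.Y) (hm0 : 0 < m) : ¬ q ∣ Char.degree θ := by
  intro hd
  have h2 := (S.Y_deg' hθ).symm.trans (Int.modEq_zero_iff_dvd.2 (by exact_mod_cast hd))
  rw [Int.modEq_zero_iff_dvd] at h2
  have hlt : (m : ℤ) < q := by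
    have := Nat.le_of_dvd (by have := hq.out.one_lt; omega) S.m_dvd
    have := hq.out.one_lt
    exact_mod_cast (show m < q by omega)
  have hm0' : (0 : ℤ) < m := by exact_mod_cast hm0
  rcases S.hε with e | e <;> rw [e] at h2
  · rw [one_mul] at h2
    exact absurd (Int.le_of_dvd hm0' h2) (by linarith)
  · rw [neg_one_mul, dvd_neg] at h2
    exact absurd (Int.le_of_dvd hm0' h2) (by linarith)

/-- The number of factorisations of `z ∈ P` into two conjugates of `v`. -/
theorem pairs (hna : ∃ a b : G, a * b ≠ b * a) (hq2 : q ≠ 2) (hcard : Nat.card G = 9 * 2 ^ a * q)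
    (hSC : DefectOne.SelfCent P) (hpM : (q : AlgInt) ∈ M) {m : ℕ} (S : DefectOne.PrimeShape P M m)
    {v : G} (hv : orderOf v = 2) (hodd : ¬ 2 ∣ (Subgroup.centralizer ({v} : Set G)).index)
    {θ : IrrCharacter G} (hθ : θ ∈ S.Y) :
    ∃ n : ℕ, (n : ℂ) = (Nat.card G : ℂ) *
        ((∑ χ ∈ S.X, (S.εX χ : ℂ) * χ.1 v ^ 2 / (Char.degree χ : ℂ)) -
          (S.ε : ℂ) * θ.1 v ^ 2 / (Char.degree θ : ℂ)) ∧
      q * (2 ^ a * 2 ^ a) ∣ n := by
  obtain ⟨z, hz1⟩ := exists_ne_one_mem hSC
  have hzG : (z : G) ≠ 1 := fun h => hz1 (Subtype.ext h)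
  have hzinv : (z⁻¹ : (P : Subgroup G)) ≠ 1 := fun h => hz1 (inv_eq_one.1 h)
  have hvreg : IsPRegular q v := by
    show ¬ q ∣ orderOf v
    rw [hv]
    exact fun h => hq2 ((Nat.prime_dvd_prime_iff_eq hq.out Nat.prime_two).1 h)
  set T : Set (G × G) := {x | x.1 * v * x.1⁻¹ * (x.2 * v * x.2⁻¹) = (z : G)} with hT
  refine ⟨Nat.card T, ?_, ?_⟩
  · rw [show Nat.card T = Nat.card {p : G × G // p.1 * v * p.1⁻¹ * (p.2 * v * p.2⁻¹) = (z : G)} from rfl,
      Char.card_conj_mul_conj_eq]
    congr 1
    have hout : ∀ χ : IrrCharacter G, χ ∉ S.X ∪ S.Y → χ.1 v * χ.1 v * χ.1 (z : G)⁻¹ / χ.1 1 = 0 := by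
      intro χ hχ
      rw [hSC.vanish hpM (fun h => hχ (Finset.mem_union.2 (S.mem_XY h))) (inv_mem z.2)
        (inv_ne_one.2 hzG), mul_zero, zero_div]
    rw [← Finset.sum_subset (Finset.subset_univ (S.X ∪ S.Y)) (fun χ _ h => hout χ h),
      Finset.sum_union S.disj, sub_eq_add_neg]
    congr 1
    · refine Finset.sum_congr rfl fun χ hχ => ?_
      have h1 := S.X_val χ hχ z⁻¹ hzinv
      rw [Subgroup.coe_inv] at h1
      rw [h1, Char.apply_one_eq_degree]
      ring
    · have hY : ∀ η ∈ S.Y, η.1 v * η.1 v * η.1 (z : G)⁻¹ / η.1 1 =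
          θ.1 v ^ 2 / (Char.degree θ : ℂ) * η.1 (z : G)⁻¹ := by
        intro η hη
        rw [S.agree η hη θ hθ v hvreg, Char.apply_one_eq_degree, S.degree_eq hη hθ]
        ring
      rw [Finset.sum_congr rfl hY, ← Finset.mul_sum,
        hSC.sum_Y hpM S ⟨θ, hθ⟩ (inv_mem z.2) (inv_ne_one.2 hzG)]
      ring
  · refine Nat.Coprime.mul_dvd_of_dvd_of_dvd
      (Nat.Coprime.mul_right (Nat.Coprime.pow_right a ((Nat.coprime_primes hq.out Nat.prime_two).2 hq2))
        (Nat.Coprime.pow_right a ((Nat.coprime_primes hq.out Nat.prime_two).2 hq2))) ?_ ?_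
    · -- `P` acts freely from the left
      have hord : orderOf ((z : G), (z : G)) = q := by
        rw [Prod.orderOf_mk, Nat.lcm_self, Subgroup.orderOf_coe]
        exact ((Nat.dvd_prime hq.out).1 (by
          have := orderOf_dvd_natCard z
          rwa [show Nat.card (P : Subgroup G) = q from hSC.card] at this)).resolve_left
            fun h => hz1 (orderOf_eq_one_iff.1 h)
      have h1 := card_dvd_of_mul_mem (Subgroup.zpowers ((z : G), (z : G))) ((·⁻¹) ⁻¹' T) ?_
      · rw [Nat.card_zpowers, hord] at h1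
        rwa [show Nat.card ((·⁻¹) ⁻¹' T : Set (G × G)) = Nat.card T from
          Nat.card_congr (Equiv.subtypeEquiv (Equiv.inv (G × G)) fun x => Iff.rfl)] at h1
      · rintro ⟨s1, s2⟩ hs k hk
        obtain ⟨i, rfl⟩ := Subgroup.mem_zpowers_iff.1 hk
        rw [show ((z : G), (z : G)) ^ i = ((z : G) ^ i, (z : G) ^ i) from Prod.ext (by simp) (by simp)]
        simp only [Set.mem_preimage, hT, Set.mem_ofPred_eq, Prod.inv_mk, Prod.fst_mul, Prod.snd_mul,
          Prod.pow_fst, Prod.pow_snd, Prod.mk_mul_mk, mul_inv_rev, inv_inv] at hs ⊢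
        calc ((z : G) ^ i)⁻¹ * s1⁻¹ * v * (s1 * (z : G) ^ i) *
              (((z : G) ^ i)⁻¹ * s2⁻¹ * v * (s2 * (z : G) ^ i))
            = ((z : G) ^ i)⁻¹ * (s1⁻¹ * v * s1 * (s2⁻¹ * v * s2)) * (z : G) ^ i := by group
          _ = (z : G) := by rw [hs]; group
    · -- the centraliser of `v` acts freely from the right
      set C := Subgroup.centralizer ({v} : Set G) with hC
      have h2a : 2 ^ a ∣ Nat.card C := by
        have h1 : 2 ^ a ∣ Nat.card C * C.index := by
          rw [Subgroup.card_mul_index, hcard]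
          exact (dvd_mul_left _ _).mul_right _
        exact (Nat.Coprime.pow_left a ((Nat.prime_two.coprime_iff_not_dvd).2 hodd)).dvd_of_dvd_mul_right h1
      refine (Nat.mul_dvd_mul h2a h2a).trans ?_
      have h1 := card_dvd_of_mul_mem (C.prod C) T ?_
      · rwa [Nat.card_congr (Subgroup.prodEquiv C C).toEquiv, Nat.card_prod] at h1
      · rintro ⟨s1, s2⟩ hs ⟨k1, k2⟩ hk
        obtain ⟨hk1, hk2⟩ := Subgroup.mem_prod.1 hk
        simp only [hT, Set.mem_ofPred_eq, Prod.mk_mul_mk] at hs ⊢
        have e : ∀ k ∈ C, k * v * k⁻¹ = v := fun k hk => by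
          rw [Subgroup.mem_centralizer_singleton_iff.1 hk, mul_inv_cancel_right]
        calc s1 * k1 * v * (s1 * k1)⁻¹ * (s2 * k2 * v * (s2 * k2)⁻¹)
            = s1 * (k1 * v * k1⁻¹) * s1⁻¹ * (s2 * (k2 * v * k2⁻¹) * s2⁻¹) := by group
          _ = (z : G) := by rw [e k1 hk1, e k2 hk2]; exact hs

/-- No character of degree `q - 1` when `|N(P) : P| = q - 1`. -/
theorem false_of_degree_pred (hna : ∃ a b : G, a * b ≠ b * a) (hq2 : q ≠ 2)
    (hSC : DefectOne.SelfCent P) (hpM : (q : AlgInt) ∈ M) (S : DefectOne.PrimeShape P M (q - 1))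
    (hm : (Subgroup.centralizer ((P : Subgroup G) : Set G)).relIndex
      (Subgroup.normalizer ((P : Subgroup G) : Set G)) = q - 1)
    {χ : IrrCharacter G} (hdeg : Char.degree χ = q - 1) : False := by
  have h3 : 3 ≤ q := by have := hq.out.two_le; omega
  have hqd : ¬ q ∣ Char.degree χ := fun h => by
    have := Nat.le_of_dvd (by omega) h; omega
  have hcast : (((q - 1 : ℕ)) : ℤ) = (q : ℤ) - 1 := by omega
  have hmod : ∀ c : ℤ, c = 1 ∨ c = -1 → (q : ℤ) - 1 ≡ c [ZMOD q] → c = -1 := by
    rintro c (rfl | rfl) h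
    · obtain ⟨t, ht⟩ := Int.modEq_iff_dvd.1 h
      have hq3' : (3 : ℤ) ≤ q := by exact_mod_cast h3
      have : (q : ℤ) * (t + 1) = 2 := by linear_combination -ht
      have h6 : (q : ℤ) ∣ 2 := Dvd.intro _ this
      exact absurd (Int.le_of_dvd (by norm_num) h6) (by linarith)
    · rfl
  have hval : ∀ y : (P : Subgroup G), y ≠ 1 → χ.1 y = -1 := by
    intro y hy
    rcases S.mem_XY (hSC.mem_block hpM hqd) with hX | hY
    · have h1 := S.X_deg' hX
      rw [hdeg, hcast] at h1
      rw [S.X_val χ hX y hy, hmod _ (S.hεX χ hX) h1]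
      push_cast; rfl
    · have hY1 : S.Y = {χ} := by
        refine (Finset.eq_singleton_iff_unique_mem).2 ⟨hY, fun η hη => ?_⟩
        refine Finset.card_le_one.1 (le_of_eq ?_) η hη χ hY
        rw [S.cardY, Nat.div_self (by omega)]
      have h1 := hSC.sum_Y hpM S ⟨χ, hY⟩ y.2 (fun h => hy (Subtype.ext h))
      rw [hY1, Finset.sum_singleton] at h1
      have h2 := S.Y_deg' hY
      rw [hdeg, hcast] at h2
      have hε : S.ε = 1 := by
        rcases S.hε with e | e
        · exact e
        · exfalso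
          rw [e] at h2
          obtain ⟨t, ht⟩ := Int.modEq_iff_dvd.1 h2
          have hq3' : (3 : ℤ) ≤ q := by exact_mod_cast h3
          have : (q : ℤ) * (t + 2) = 2 := by linear_combination -ht
          exact absurd (Int.le_of_dvd (by norm_num) (Dvd.intro _ this)) (by linarith)
      rw [h1, hε]; push_cast; rfl
  set N := Subgroup.normalizer ((P : Subgroup G) : Set G) with hN
  haveI : IsCyclic (P : Subgroup G) := isCyclic_of_prime_card (show Nat.card (P : Subgroup G) = q from hSC.card)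
  haveI hauto : IsCyclic (MulAut (P : Subgroup G)) := by
    have hc : IsCyclic (ZMod (Nat.card (P : Subgroup G)))ˣ := by
      rw [show Nat.card (P : Subgroup G) = q from hSC.card]
      infer_instance
    exact (IsCyclic.mulAutMulEquiv (P : Subgroup G)).isCyclic.2 hc
  set φ := Subgroup.normalizerMonoidHom (P : Subgroup G) with hφ
  have hker : φ.ker = (Subgroup.centralizer ((P : Subgroup G) : Set G)).subgroupOf N :=
    Subgroup.normalizerMonoidHom_ker _
  have hrange : Nat.card φ.range = q - 1 := by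
    rw [← Subgroup.index_ker, hker]
    exact hm
  obtain ⟨g₀, hg₀⟩ := IsCyclic.exists_generator (α := φ.range)
  obtain ⟨w, hw⟩ := MonoidHom.mem_range.1 g₀.2
  have hφw : orderOf (φ w) = q - 1 := by
    rw [hw, Subgroup.orderOf_coe, orderOf_eq_card_of_forall_mem_zpowers hg₀, hrange]
  have hPker : ∀ x : N, φ x = 1 ↔ (x : G) ∈ (P : Subgroup G) := fun x => by
    rw [← MonoidHom.mem_ker, hker, Subgroup.mem_subgroupOf, hSC.cent]
  have hwd : orderOf (w : G) = q - 1 := by
    rw [Subgroup.orderOf_coe]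
    refine Nat.dvd_antisymm (orderOf_dvd_of_pow_eq_one ?_) (hφw ▸ orderOf_map_dvd φ w)
    by_contra hne
    have h1 : ((w ^ (q - 1) : N) : G) ∈ (P : Subgroup G) :=
      (hPker _).1 (by rw [map_pow, ← hφw, pow_orderOf_eq_one])
    have h2 : (w : G) ∈ (P : Subgroup G) := by
      refine (SetLike.ext_iff.1 (hSC.centralizer_singleton h1 (fun h => hne (Subtype.ext h))) _).1 ?_
      refine Subgroup.mem_centralizer_singleton_iff.2 ?_
      push_cast
      exact (Commute.self_pow _ _).eq
    rw [(hPker w).2 h2, orderOf_one] at hφw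
    omega
  have hzero : ∀ j : ℕ, ¬ (q - 1) ∣ j → χ.1 ((w : G) ^ j) = 0 := by
    intro j hj
    set u : N := w ^ j with hu
    have huP : (u : G) ∉ (P : Subgroup G) := fun h =>
      hj (hφw ▸ orderOf_dvd_of_pow_eq_one (by rw [← map_pow]; exact (hPker u).2 h))
    have hres := Char.IsCharacter.restrict (Char.irr_isCharacter χ) N
    obtain ⟨n, hn, -⟩ := Char.IsCharacter.exists_decomp hres
    have hPN : (P : Subgroup G) ≤ N := Subgroup.le_normalizer
    let j' : (P : Subgroup G) →* N := Subgroup.inclusion hPN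
    choose k hk using fun η : IrrCharacter N => Char.IsCharacter.exists_nat_classInner
      (Char.IsCharacter.comp (Char.irr_isCharacter η) j')
      (Char.irr_isCharacter (Char.trivialChar (P : Subgroup G)))
    have hk' : ∀ η : IrrCharacter N, ∑ y : (P : Subgroup G), η.1 (j' y) = (q : ℂ) * k η := by
      intro η
      have := hk η
      rw [classInner, show Nat.card (P : Subgroup G) = q from hSC.card] at this
      simp only [Char.trivialChar_apply, map_one, mul_one] at this
      rw [← this, ← mul_assoc, mul_inv_cancel₀ (Nat.cast_ne_zero.2 hq.out.ne_zero), one_mul]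
    have hexp : ∀ g : N, χ.1 (g : G) = ∑ η : IrrCharacter N, (n η : ℂ) * η.1 g := by
      intro g
      have := congrFun hn g
      simp only [Finset.sum_apply, Pi.smul_apply, smul_eq_mul] at this
      exact this
    have h0 : ∑ η : IrrCharacter N, n η * k η = 0 := by
      have h1 : ∑ y : (P : Subgroup G), χ.1 (y : G) = 0 := by
        rw [DefectOne.sum_split, Finset.sum_congr rfl fun y hy => hval y (Finset.mem_erase.1 hy).1,
          Finset.sum_const, DefectOne.card_erase hSC.card, hdeg, nsmul_eq_mul]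
        ring
      have h2 : ∑ y : (P : Subgroup G), χ.1 (y : G) =
          (q : ℂ) * ((∑ η : IrrCharacter N, n η * k η : ℕ) : ℂ) := by
        rw [Finset.sum_congr rfl fun (y : (P : Subgroup G)) _ => show χ.1 (y : G) =
          ∑ η : IrrCharacter N, (n η : ℂ) * η.1 (j' y) from hexp (j' y), Finset.sum_comm]
        push_cast
        rw [Finset.mul_sum]
        refine Finset.sum_congr rfl fun η _ => ?_
        rw [← Finset.mul_sum, hk']
        ring
      rw [h1] at h2
      exact_mod_cast (mul_eq_zero.1 h2.symm).resolve_left (Nat.cast_ne_zero.2 hq.out.ne_zero)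
    have hsum : ∑ y : (P : Subgroup G), χ.1 ((y : G) * (u : G)) = 0 := by
      rw [Finset.sum_congr rfl fun (y : (P : Subgroup G)) _ => show χ.1 ((y : G) * (u : G)) =
        ∑ η : IrrCharacter N, (n η : ℂ) * η.1 (j' y * u) from hexp (j' y * u), Finset.sum_comm]
      refine Finset.sum_eq_zero fun η _ => ?_
      rw [← Finset.mul_sum, mul_eq_zero]
      by_cases hη : n η = 0
      · exact Or.inl (by rw [hη, Nat.cast_zero])
      right
      have hkη : k η = 0 := (Nat.mul_eq_zero.1
        ((Finset.sum_eq_zero_iff.1 h0) η (Finset.mem_univ _))).resolve_left hη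
      have hA : ∀ x : N, ∑ y : (P : Subgroup G), η.1 (x * j' y * x⁻¹ * u) =
          ∑ y : (P : Subgroup G), η.1 (j' y * u) := by
        intro x
        have hmem : ∀ y : (P : Subgroup G), (x : G) * y * (x : G)⁻¹ ∈ (P : Subgroup G) := fun y =>
          (Subgroup.mem_normalizer_iff.1 x.2 _).1 y.2
        let σ : ↥(P : Subgroup G) → ↥(P : Subgroup G) := fun y => ⟨(x : G) * y * (x : G)⁻¹, hmem y⟩
        have hσ : Function.Bijective σ := Finite.injective_iff_bijective.1 fun y y' h =>
          Subtype.ext (mul_left_cancel (mul_right_cancel (congrArg Subtype.val h)))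
        rw [← (Equiv.ofBijective σ hσ).sum_comp fun y => η.1 (j' y * u)]
        exact Finset.sum_congr rfl fun y _ => by congr 2
      have h1 : η.1 1 * ((Nat.card N : ℂ) * ∑ y : (P : Subgroup G), η.1 (j' y * u)) =
          (Nat.card N : ℂ) * η.1 u * ∑ y : (P : Subgroup G), η.1 (j' y) := by
        rw [← nsmul_eq_mul, Nat.card_eq_fintype_card, ← Finset.card_univ, ← Finset.sum_const,
          ← Finset.sum_congr rfl fun x _ => hA x, Finset.sum_comm, Finset.mul_sum, Finset.mul_sum]
        refine Finset.sum_congr rfl fun y _ => ?_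
        rw [Char.sum_irr_conj_mul η.2, Finset.card_univ, Nat.card_eq_fintype_card]
        ring
      rw [hk', hkη, Nat.cast_zero, mul_zero, mul_zero, mul_eq_zero, mul_eq_zero] at h1
      exact (h1.resolve_left (Char.IsIrrCharacter.apply_one_ne_zero η.2)).resolve_left
        (Nat.cast_ne_zero.2 Nat.card_pos.ne')
    have hconj : ∀ y : (P : Subgroup G), χ.1 ((y : G) * (u : G)) = χ.1 (u : G) := by
      intro y
      let τ : ↥(P : Subgroup G) → ↥(P : Subgroup G) := fun x =>
        x * ⟨(u : G) * (x : G)⁻¹ * (u : G)⁻¹, (Subgroup.mem_normalizer_iff.1 u.2 _).1 (inv_mem x.2)⟩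
      have hτ : Function.Bijective τ := by
        refine Finite.injective_iff_bijective.1 fun x x' h => ?_
        have h' := congrArg Subtype.val h
        simp only [τ, Subgroup.coe_mul] at h'
        by_contra hne
        have h5 : ((x'⁻¹ * x : (P : Subgroup G)) : G) ≠ 1 := fun e =>
          hne (inv_mul_eq_one.1 (Subtype.ext e : x'⁻¹ * x = 1)).symm
        have hc : (u : G) ∈ Subgroup.centralizer ({((x'⁻¹ * x : (P : Subgroup G)) : G)} : Set G) := by
          refine Subgroup.mem_centralizer_singleton_iff.2 ?_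
          have h6 : (x' : G)⁻¹ * (x : G) = (u : G) * ((x' : G)⁻¹ * (x : G)) * (u : G)⁻¹ := by
            calc (x' : G)⁻¹ * (x : G) = (x' : G)⁻¹ * ((x : G) * ((u : G) * (x : G)⁻¹ * (u : G)⁻¹)) *
                  ((u : G) * (x : G) * (u : G)⁻¹) := by group
              _ = (x' : G)⁻¹ * ((x' : G) * ((u : G) * (x' : G)⁻¹ * (u : G)⁻¹)) *
                  ((u : G) * (x : G) * (u : G)⁻¹) := by rw [h']
              _ = _ := by group
          push_cast
          exact (eq_mul_inv_iff_mul_eq.1 h6).symm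
        rw [hSC.centralizer_singleton (x'⁻¹ * x).2 h5] at hc
        exact huP hc
      obtain ⟨x, rfl⟩ := hτ.2 y
      rw [show ((τ x : (P : Subgroup G)) : G) * (u : G) = (x : G) * (u : G) * (x : G)⁻¹ by
        simp only [τ, Subgroup.coe_mul]; group]
      exact Blocks.irr_classFun χ _ _
    rw [Finset.sum_congr rfl fun y _ => hconj y, Finset.sum_const, Finset.card_univ,
      ← Nat.card_eq_fintype_card, show Nat.card (P : Subgroup G) = q from hSC.card, nsmul_eq_mul,
      mul_eq_zero, or_iff_right (Nat.cast_ne_zero.2 hq.out.ne_zero), hu, Subgroup.coe_pow] at hsum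
    exact hsum
  -- the determinant
  obtain ⟨d, ρ, hρ, hρχ⟩ := χ.2
  have hd : d = q - 1 := by
    have := Char.apply_one_eq_degree χ
    rw [← hρχ, ρ.char_one, Module.finrank_fin_fun, hdeg] at this
    exact_mod_cast this
  obtain ⟨b, μ, hμ, hb⟩ := CharInt.exists_eigenbasis_rho ρ (w : G)
  rw [hwd] at hμ
  have hcard' : Fintype.card (Fin (Module.finrank ℂ (Fin d → ℂ))) = q - 1 := by
    rw [Fintype.card_fin, Module.finrank_fin_fun, hd]
  have hpow : ∀ k : ℕ, ¬ (q - 1) ∣ k → ∑ i, μ i ^ k = 0 := by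
    intro k hk
    have h1 := hzero k hk
    rw [← hρχ, Representation.character, map_pow,
      CharInt.trace_of_eigenbasis b (f := ρ (w : G) ^ k) (μ := fun i => μ i ^ k)
        (fun i => CharInt.pow_apply_eigenvector b hb k i)] at h1
    exact h1
  have hdet : ∏ i, μ i = 1 := by
    let lam : G →* ℂ := (LinearMap.det : ((Fin d → ℂ) →ₗ[ℂ] (Fin d → ℂ)) →* ℂ).comp ρ
    have h1 : (⟨lam, Char.isIrrCharacter_of_monoidHom lam⟩ : IrrCharacter G) = Char.trivialChar G :=
      Blocks.eq_trivial_of_degree_one hna _ (map_one lam)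
    have h2 := congrFun (congrArg Subtype.val h1) (w : G)
    rw [Char.trivialChar_apply] at h2
    rw [← CharInt.det_of_eigenbasis b hb]
    exact h2
  have hinj : Function.Injective μ := by
    intro i i' he
    by_contra hne
    have hμ0 : μ i ≠ 0 := fun h => by
      have := hμ i
      rw [h, zero_pow (by omega)] at this
      exact zero_ne_one this
    have hT : ∀ l, ∑ k ∈ Finset.range (q - 1), (μ l / μ i) ^ k =
        if μ l = μ i then ((q - 1 : ℕ) : ℂ) else 0 := by
      intro l
      split_ifs with h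
      · rw [h, div_self hμ0]; simp
      · rw [geom_sum_eq (fun e => h ((div_eq_one_iff_eq hμ0).1 e)), div_pow, hμ, hμ, div_one,
          sub_self, zero_div]
    have hS : ∑ l, ∑ k ∈ Finset.range (q - 1), (μ l / μ i) ^ k = ((q - 1 : ℕ) : ℂ) := by
      rw [Finset.sum_comm, Finset.sum_eq_single 0]
      · simp [hd]
      · intro k hk hk0
        simp only [div_pow, ← Finset.sum_div]
        rw [hpow k fun h => hk0 (Nat.eq_zero_of_dvd_of_lt h (Finset.mem_range.1 hk)), zero_div]
      · intro h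
        exact absurd (Finset.mem_range.2 (by omega)) h
    rw [Finset.sum_congr rfl fun l _ => hT l, ← Finset.sum_filter, Finset.sum_const,
      nsmul_eq_mul] at hS
    have h4 : (Finset.univ.filter fun l => μ l = μ i).card * (q - 1) = 1 * (q - 1) := by
      rw [one_mul]; exact_mod_cast hS
    have h5 : 1 < (Finset.univ.filter fun l => μ l = μ i).card :=
      Finset.one_lt_card.2 ⟨i, by simp, i', by simp [he], hne⟩
    have := Nat.eq_of_mul_eq_mul_right (by omega) h4
    omega
  obtain ⟨ω, hω⟩ : ∃ ω : ℂ, IsPrimitiveRoot ω (q - 1) := ⟨_, Complex.isPrimitiveRoot_exp (q - 1) (by omega)⟩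
  have himg : Finset.univ.image μ = (Finset.range (q - 1)).image (ω ^ ·) := by
    refine Finset.eq_of_subset_of_card_le (fun x hx => ?_) ?_
    · obtain ⟨i, -, rfl⟩ := Finset.mem_image.1 hx
      haveI : NeZero (q - 1) := ⟨by omega⟩
      obtain ⟨k, hk, hk'⟩ := hω.eq_pow_of_pow_eq_one (hμ i)
      exact Finset.mem_image.2 ⟨k, Finset.mem_range.2 hk, hk'⟩
    · rw [Finset.card_image_of_injective _ hinj, Finset.card_univ, hcard']
      exact Finset.card_image_le.trans (Finset.card_range _).le
  have hprod : ∏ i, μ i = ω ^ (∑ k ∈ Finset.range (q - 1), k) := by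
    rw [← Finset.prod_pow_eq_pow_sum]
    have e1 : ∏ x ∈ Finset.univ.image μ, x = ∏ i, μ i := Finset.prod_image fun _ _ _ _ h => hinj h
    rw [← e1, himg, Finset.prod_image]
    intro x hx y hy h
    exact hω.pow_inj (Finset.mem_range.1 hx) (Finset.mem_range.1 hy) h
  rw [hdet] at hprod
  obtain ⟨h, hh⟩ : ∃ h, q - 1 = 2 * h := by
    have : q % 2 = 1 := hq.out.eq_two_or_odd.resolve_left hq2
    exact ⟨(q - 1) / 2, by omega⟩
  have hsum : ∑ k ∈ Finset.range (q - 1), k = h * (2 * h - 1) := by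
    refine Nat.eq_of_mul_eq_mul_right (show 0 < 2 by norm_num) ?_
    rw [Finset.sum_range_id_mul_two, hh]; ring
  rw [hsum, eq_comm] at hprod
  have hd2 : (q - 1) ∣ h * (2 * h - 1) := (hω.pow_eq_one_iff_dvd _).1 hprod
  rw [hh] at hd2
  obtain ⟨c, hc⟩ := hd2
  have : 2 * h - 1 = 2 * c := Nat.eq_of_mul_eq_mul_left (show 0 < h by omega) (by rw [hc]; ring)
  omega

end Cfsg.Agent.NineTwoQ
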