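import Cfsg.Agent.Lib.DefectOne.Principal
import Cfsg.Agent.Lib.BrauerPairs.MajorSubsection
import Cfsg.Agent.Lib.CharInt.Central

/-!
# `p`-sections: counting, and values of the principal block on them
-/

set_option autoImplicit false
set_option linter.style.haveILetI false
set_option linter.unusedSectionVars false

namespace Cfsg.Agent.NineTwoQ

open Cfsg Cfsg.Agent
open scoped ComplexConjugate Classical Cfsg.Agent.Blocks

universe u

variable {G : Type u} [Group G] [Fintype G] {p : ℕ} [hp : Fact p.Prime]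

/-- The `p`-section of `z`. -/
noncomputable def sec (p : ℕ) (z : G) : Finset G :=
  Finset.univ.filter fun g => ∃ x, IsPPart p g x ∧ IsConj z x

omit hp in
theorem mem_sec {z g : G} : g ∈ sec p z ↔ ∃ x, IsPPart p g x ∧ IsConj z x := by simp [sec]

theorem mem_sec_iff_of_isPPart {z g x : G} (hx : IsPPart p g x) : g ∈ sec p z ↔ IsConj z x := by
  refine mem_sec.trans ⟨fun ⟨x', hx', hc⟩ => ?_, fun h => ⟨x, hx, h⟩⟩
  rwa [Blocks.IsPPart.unique hx hx']

/-- The number of `p`-regular elements of the centraliser. -/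
noncomputable def regCard (p : ℕ) (H : Subgroup G) : ℕ :=
  Nat.card {c : H // IsPRegular p c}

/-- The size of a `p`-section. -/
theorem card_sec {z : G} (hz : ∃ k, orderOf z = p ^ k) :
    (sec p z).card = (Subgroup.centralizer ({z} : Set G)).index *
      regCard p (Subgroup.centralizer ({z} : Set G)) := by
  set C := Subgroup.centralizer ({z} : Set G) with hC
  rw [← CharInt.natCard_isConj, regCard, ← Nat.card_prod, ← Nat.card_eq_finsetCard]
  have ha : ∀ x : {x : G // IsConj z x}, ∃ a : G, a * z * a⁻¹ = x := fun x => isConj_iff.1 x.2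
  choose a ha using ha
  have hpp : ∀ c : {c : C // IsPRegular p c}, IsPPart p (z * ((c.1 : C) : G)) z := fun c =>
    Blocks.isPPart_mul (Subgroup.mem_centralizer_singleton_iff.1 c.1.2).symm hz (by
      show ¬ p ∣ orderOf ((c.1 : C) : G)
      rw [Subgroup.orderOf_coe]
      exact c.2)
  refine (Nat.card_congr (Equiv.ofBijective
    (fun y : {x : G // IsConj z x} × {c : C // IsPRegular p c} =>
      (⟨a y.1 * (z * ((y.2.1 : C) : G)) * (a y.1)⁻¹, mem_sec.2
        ⟨y.1, by
          have := Blocks.IsPPart.conj (hpp y.2) (a y.1)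
          rwa [ha y.1] at this, y.1.2⟩⟩ : sec p z)) ⟨?_, ?_⟩)).symm
  · rintro ⟨x, c⟩ ⟨x', c'⟩ he
    have he' := congrArg Subtype.val he
    simp only at he'
    have h1 := Blocks.IsPPart.conj (hpp c) (a x)
    have h2 := Blocks.IsPPart.conj (hpp c') (a x')
    rw [ha x, he'] at h1
    rw [ha x'] at h2
    obtain rfl : x = x' := Subtype.ext (Blocks.IsPPart.unique h1 h2)
    have h3 : ((c.1 : C) : G) = ((c'.1 : C) : G) :=
      mul_left_cancel (mul_left_cancel (mul_right_cancel he'))
    exact Prod.ext rfl (Subtype.ext (Subtype.ext h3))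
  · rintro ⟨g, hg⟩
    obtain ⟨x, hx, hzx⟩ := mem_sec.1 hg
    have h1 := Blocks.IsPPart.conj hx (a ⟨x, hzx⟩)⁻¹
    have h2 := ha ⟨x, hzx⟩
    simp only at h2
    rw [inv_inv, show (a ⟨x, hzx⟩)⁻¹ * x * a ⟨x, hzx⟩ = z by
      calc (a ⟨x, hzx⟩)⁻¹ * x * a ⟨x, hzx⟩
          = (a ⟨x, hzx⟩)⁻¹ * (a ⟨x, hzx⟩ * z * (a ⟨x, hzx⟩)⁻¹) * a ⟨x, hzx⟩ := by rw [h2]
        _ = z := by group] at h1
    obtain ⟨c, hc1, hc2, -, hc4⟩ := h1
    refine ⟨(⟨x, hzx⟩, ⟨⟨c, Subgroup.mem_centralizer_singleton_iff.2 hc2.eq.symm⟩, ?_⟩),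
      Subtype.ext ?_⟩
    · show ¬ p ∣ orderOf (⟨c, _⟩ : C)
      rwa [Subgroup.orderOf_mk]
    · show a ⟨x, hzx⟩ * (z * c) * (a ⟨x, hzx⟩)⁻¹ = g
      rw [hc1]
      group

/-- Regular elements of a group with a normal `p`-complement. -/
theorem regCard_of_hasNormalPComplement {H : Subgroup G} (h : HasNormalPComplement p H) :
    regCard p H * p ^ (Nat.card H).factorization p = Nat.card H := by
  obtain ⟨hidx, hreg⟩ := DefectOne.index_pPrimeCore_of_hasNormalPComplement h
  have hm : ∀ c : H, IsPRegular p c ↔ c ∈ pPrimeCore p H := fun c =>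
    ⟨hreg c, fun hc hd => PCore.not_dvd_card_pPrimeCore (p := p) (G := H)
      (hd.trans (Subgroup.orderOf_dvd_natCard _ hc))⟩
  rw [regCard, Nat.card_congr (Equiv.subtypeEquivRight hm), ← hidx]
  exact Subgroup.card_mul_index _

variable {M : Ideal AlgInt} [M.IsMaximal]

/-- Principal block members are constant on the section of an element whose centraliser has a
normal `p`-complement. -/
theorem apply_mul_regular (hpM : (p : AlgInt) ∈ M) {z : G} (hz : ∃ k, orderOf z = p ^ k)
    (hnc : HasNormalPComplement p (Subgroup.centralizer ({z} : Set G)))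
    {χ : IrrCharacter G} (hχ : χ ∈ principalBlock M G) {c : G} (hc : c * z = z * c)
    (hcr : IsPRegular p c) : χ.1 (z * c) = χ.1 z := by
  refine Blocks.principal_apply_mul_core hpM hz ?_ hχ
  refine ⟨⟨c, Subgroup.mem_centralizer_singleton_iff.2 hc⟩,
    (DefectOne.index_pPrimeCore_of_hasNormalPComplement hnc).2 _ ?_, rfl⟩
  rwa [Subgroup.orderOf_mk]

/-- Column norm of the principal block. -/
theorem sum_principal_sq (hpM : (p : AlgInt) ∈ M) {z : G} (hz : ∃ k, orderOf z = p ^ k)
    (hnc : HasNormalPComplement p (Subgroup.centralizer ({z} : Set G))) :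
    ∑ χ ∈ Finset.univ.filter (· ∈ principalBlock M G), χ.1 z * conj (χ.1 z) =
      ((p ^ (Nat.card (Subgroup.centralizer ({z} : Set G))).factorization p : ℕ) : ℂ) := by
  set C := Subgroup.centralizer ({z} : Set G) with hC
  have h1 : IsPRegular p (1 : C) := by simp [IsPRegular, hp.out.ne_one]
  have := Blocks.second_main_orth hpM hz (Blocks.isPBlock_principalBlock hpM (G := G)) h1 h1
  simp only [OneMemClass.coe_one, mul_one] at this
  rw [this, Blocks.inducingSet_principalBlock hpM hz]
  obtain ⟨hidx, -⟩ := DefectOne.index_pPrimeCore_of_hasNormalPComplement hnc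
  rw [Finset.sum_congr (s₂ := Finset.univ.filter
      fun η : IrrCharacter C => Char.TrivOn (pPrimeCore p C) η.1) (Finset.filter_congr fun η _ => by
      rw [Blocks.principalBlock_eq_of_index hpM ⟨_, hidx⟩]; rfl) fun η _ =>
      show η.1 1 * conj (η.1 1) = ((charDegree η.1 ^ 2 : ℕ) : ℂ) by
        rw [← Char.charDegree_cast, map_natCast]; push_cast; ring,
    ← Nat.cast_sum, Char.sum_trivOn_degree_sq, hidx]

variable [CharP (AlgInt ⧸ M) p]

/-- A member of a block is non-zero somewhere on the section of an element central in a defect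
group. -/
theorem exists_section_ne_zero (hpM : (p : AlgInt) ∈ M) {B : Set (IrrCharacter G)}
    (hB : IsPBlock M B) {D : Subgroup G} (hD : IsDefectGroup p M B D) {u : G} (hu : u ∈ D)
    (huD : ∀ x ∈ D, x * u = u * x) {χ : IrrCharacter G} (hχ : χ ∈ B) :
    ∃ s : G, s * u = u * s ∧ IsPRegular p s ∧ χ.1 (u * s) ≠ 0 := by
  obtain ⟨b, hb, hd, k, hk⟩ := BrauerPairs.exists_major_subsection hpM hB hD hu huD
  obtain ⟨-, -, -, h4⟩ := HeightBound.ctr_facts hpM rfl hk hb χ
  by_contra hno
  refine h4 hd hχ (Finset.sum_eq_zero fun η _ => ?_)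
  rw [show HeightBound.sdot p (Subgroup.centralizer ({u} : Set G)) u χ.1 η.1 = 0 from ?_,
    map_zero, mul_zero]
  rw [HeightBound.sdot, BrauerPairs.regDot, classInner, Finset.sum_eq_zero, mul_zero]
  intro c _
  unfold Char.regFun
  split_ifs with hc
  · rw [zero_mul]
  · rw [show HeightBound.sfun (Subgroup.centralizer ({u} : Set G)) u χ.1 c = 0 from
      not_not.1 fun h => hno ⟨(c : G), Subgroup.mem_centralizer_singleton_iff.1 c.2,
        by rwa [IsPRegular, Subgroup.orderOf_coe], h⟩, zero_mul]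

end Cfsg.Agent.NineTwoQ
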