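import Cfsg.Agent.Lib.NineTwoQ.Cases

/-!
# The case `q = 17`
-/

set_option autoImplicit false
set_option linter.style.haveILetI false
set_option linter.unusedSectionVars false

namespace Cfsg.Agent.NineTwoQ

open Cfsg Cfsg.Agent
open scoped ComplexConjugate Classical

universe u

theorem res17_one : ∀ j : Fin 8, ∀ b : Bool,
    (2 : ZMod 17) ^ (j : ℕ) = (if b then 1 else -1) → (j : ℕ) % 4 = 0 := by decide

theorem res17_three : ∀ j : Fin 8, ∀ b : Bool,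
    (3 : ZMod 17) * 2 ^ (j : ℕ) ≠ (if b then 1 else -1) := by decide

theorem res17_nine : ∀ j : Fin 8, ∀ b : Bool,
    (9 : ZMod 17) * 2 ^ (j : ℕ) = (if b then 1 else -1) →
      (j : ℕ) % 4 = 1 ∧ ((j : ℕ) = 1 → b = true) := by decide

theorem res17_cong : ∀ j : Fin 8, (9 : ZMod 17) * 2 ^ (j : ℕ) = 1 → (j : ℕ) = 1 := by decide

theorem pow_mod8 (x : ℕ) : (2 : ZMod 17) ^ x = 2 ^ (x % 8) := by
  conv_lhs => rw [← Nat.mod_add_div x 8, pow_add, pow_mul, show (2 : ZMod 17) ^ 8 = 1 from rfl,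
    one_pow, mul_one]

/-- Congruences modulo 17 of the degrees in `X`. -/
theorem classify17 {s u : ℕ} (hs : s ≤ 2) {e : ℤ} (he : e = 1 ∨ e = -1)
    (h : (17 : ℤ) ∣ 3 ^ s * 2 ^ u - e) :
    (s = 0 ∧ u % 4 = 0) ∨ (s = 2 ∧ u % 4 = 1 ∧ (u = 1 → e = 1)) := by
  have h' : (((3 : ℤ) ^ s * 2 ^ u - e : ℤ) : ZMod 17) = 0 :=
    (ZMod.intCast_zmod_eq_zero_iff_dvd _ 17).2 (by exact_mod_cast h)
  push_cast at h'
  rw [sub_eq_zero, pow_mod8 u] at h'
  obtain ⟨b, hb⟩ : ∃ b : Bool, (e : ZMod 17) = if b then 1 else -1 := by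
    rcases he with rfl | rfl
    · exact ⟨true, by simp⟩
    · exact ⟨false, by simp⟩
  rw [hb] at h'
  set j : Fin 8 := ⟨u % 8, Nat.mod_lt _ (by norm_num)⟩ with hj
  interval_cases s
  · rw [pow_zero, one_mul] at h'
    have h2 : u % 8 % 4 = 0 := res17_one j b h'
    exact Or.inl ⟨rfl, by omega⟩
  · rw [pow_one] at h'
    exact absurd h' (res17_three j b)
  · norm_num at h'
    obtain ⟨h1, h2⟩ := res17_nine j b h'
    have h1' : u % 8 % 4 = 1 := h1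
    refine Or.inr ⟨rfl, by omega, fun hu => ?_⟩
    have hbt := h2 (show u % 8 = 1 by omega)
    rcases he with rfl | rfl
    · rfl
    · rw [hbt, if_pos rfl] at hb
      push_cast at hb
      revert hb
      decide

/-- The signed values: `2`, or a multiple `-16 t` with `t = 1`, `t = 18` or `16 ∣ t`. -/
theorem classify_value {s u : ℕ} (hs : s = 0 ∧ u % 4 = 0 ∧ u ≠ 0 ∨ s = 2 ∧ u % 4 = 1 ∧ u ≠ 1)
    {e : ℤ} (he : e = 1 ∨ e = -1) (h : (17 : ℤ) ∣ 3 ^ s * 2 ^ u - e) :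
    ∃ t : ℤ, e * (3 ^ s * 2 ^ u) = -16 * t ∧ (t = 1 ∨ t = 18 ∨ (16 : ℤ) ∣ t) := by
  rcases hs with ⟨rfl, hu, hu0⟩ | ⟨rfl, hu, hu1⟩
  · rcases eq_or_ne u 4 with rfl | h4
    · refine ⟨1, ?_, Or.inl rfl⟩
      rcases he with rfl | rfl
      · norm_num at h
      · norm_num
    · obtain ⟨w, rfl⟩ : ∃ w, u = w + 8 := ⟨u - 8, by omega⟩
      exact ⟨-(e * 2 ^ (w + 4)), by ring, Or.inr (Or.inr ⟨-(e * 2 ^ w), by ring⟩)⟩
  · rcases eq_or_ne u 5 with rfl | h5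
    · refine ⟨18, ?_, Or.inr (Or.inl rfl)⟩
      rcases he with rfl | rfl
      · norm_num at h
      · norm_num
    · obtain ⟨w, rfl⟩ : ∃ w, u = w + 9 := ⟨u - 9, by omega⟩
      exact ⟨-(e * (9 * 2 ^ (w + 5))), by ring, Or.inr (Or.inr ⟨-(e * (9 * 2 ^ (w + 1))), by ring⟩)⟩

variable {G : Type u} [Group G] [Fintype G] [IsSimpleGroup G]

/-- `q = 17`. -/
theorem seventeen {a : ℕ} [hq : Fact (Nat.Prime 17)] (D : Setting G 17 a) {χ : IrrCharacter G}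
    (hχ : Char.degree χ = 16) (ha : 4 ≤ a) {v : G} (hv : orderOf v = 2)
    (hodd : ¬ 2 ∣ (Subgroup.centralizer ({v} : Set G)).index) : a = 4 := by
  haveI := D.hM
  obtain ⟨m, ⟨S⟩, hm, hmq, hm2, hm9, k, hk, hqk⟩ := D.exists_shape
  obtain ⟨f, hf, rfl⟩ := (Nat.dvd_prime_pow Nat.prime_two).1 (show m ∣ 2 ^ 4 by simpa using hmq)
  have hf1 : 1 ≤ f := Nat.pos_of_ne_zero fun h => by rw [h] at hm2; norm_num at hm2
  have hne : χ ≠ Char.trivialChar G := ne_trivial_of_degree D.hna (by omega)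
  rcases eq_or_ne f 4 with rfl | hf4
  · exact absurd hχ fun h => false_of_degree_pred D.hna D.hq2 D.hSC D.hpM S hm h
  have hT : Char.trivialChar G ∈ S.X := trivial_mem_X D.hna S (by interval_cases f <;> norm_num at *)
  obtain ⟨θ, hθ⟩ : S.Y.Nonempty := Finset.card_pos.1 (by
    rw [S.cardY]; interval_cases f <;> norm_num at *)
  have hχX : χ ∈ S.X := by
    refine (S.mem_XY (D.hSC.mem_block D.hpM (by rw [hχ]; norm_num))).resolve_right fun hY => ?_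
    have h := Int.modEq_iff_dvd.1 (S.Y_deg' hY)
    rw [hχ] at h
    interval_cases f <;> rcases S.hε with e | e <;> rw [e] at h <;> norm_num at *
  have hεχ : S.εX χ = -1 := by
    rcases S.hεX χ hχX with e | e
    · have h := Int.modEq_iff_dvd.1 (S.X_deg' hχX)
      rw [hχ, e] at h
      norm_num at h
    · exact e
  set W := (S.X.erase (Char.trivialChar G)).erase χ with hW
  have hWsub : ∀ x ∈ W, x ≠ Char.trivialChar G ∧ x ∈ S.X := fun x hx =>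
    ⟨(Finset.mem_erase.1 (Finset.mem_erase.1 hx).2).1, (Finset.mem_erase.1 (Finset.mem_erase.1 hx).2).2⟩
  have hχe : χ ∈ S.X.erase (Char.trivialChar G) := Finset.mem_erase.2 ⟨hne, hχX⟩
  have hWc : W.card + 2 = 2 ^ f := by
    rw [hW, Finset.card_erase_of_mem hχe, Finset.card_erase_of_mem hT, S.cardX]
    have : 2 ≤ 2 ^ f := Nat.le_self_pow (by omega) 2
    omega
  have hsplit : ∀ F : IrrCharacter G → ℂ,
      ∑ x ∈ S.X, F x = F (Char.trivialChar G) + (F χ + ∑ x ∈ W, F x) := fun F => by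
    rw [← Finset.add_sum_erase _ F hT, ← Finset.add_sum_erase _ F hχe]
  have hcase : ∀ x ∈ W, ∃ s u : ℕ, Char.degree x = 3 ^ s * 2 ^ u ∧
      (17 : ℤ) ∣ (3 : ℤ) ^ s * 2 ^ u - S.εX x ∧
      (s = 0 ∧ u % 4 = 0 ∧ u ≠ 0 ∨ s = 2 ∧ u % 4 = 1 ∧ (u = 1 → S.εX x = 1)) := by
    intro x hx
    obtain ⟨hxT, hxX⟩ := hWsub x hx
    obtain ⟨s, u, hs, -, hd⟩ := degree_form D.hq2 D.hcard x (not_dvd_degree_X S hxX)
    have hdvd := X_dvd S hxX hd
    refine ⟨s, u, hd, by exact_mod_cast hdvd, ?_⟩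
    rcases classify17 hs (S.hεX x hxX) (by exact_mod_cast hdvd) with ⟨rfl, h⟩ | h
    · refine Or.inl ⟨rfl, h, fun h0 => ?_⟩
      exact degree_ne_one D.hna hxT (by rw [hd, h0]; norm_num)
    · exact Or.inr h
  have hWeven : (2 : ℤ) ∣ ∑ x ∈ W, S.εX x * (Char.degree x : ℤ) := by
    refine Finset.dvd_sum fun x hx => ?_
    obtain ⟨s, u, hd, -, h⟩ := hcase x hx
    refine Dvd.dvd.mul_left ?_ _
    rw [hd]
    push_cast
    exact Dvd.dvd.mul_left (dvd_pow_self 2 (by omega)) _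
  have hrel := S.degree_relation hθ
  rw [← Finset.add_sum_erase _ _ hT, ← Finset.add_sum_erase _ _ hχe, eX_trivial D.hSC S hT, hεχ,
    degree_trivial, hχ, ← hW] at hrel
  push_cast at hrel
  obtain ⟨s₀, u₀, hs₀, -, hθd⟩ :=
    degree_form D.hq2 D.hcard θ (not_dvd_degree_Y S hθ (Nat.two_pow_pos f))
  have hu₀ : u₀ = 0 := even_three_pow_mul (s := s₀) (by
    rw [← hθd]
    rcases S.hε with e | e <;> rw [e] at hrel <;> omega)
  rw [hu₀, pow_zero, mul_one] at hθd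
  have hθY := Int.modEq_iff_dvd.1 (S.Y_deg' hθ)
  have hθd9 : f = 3 ∧ Char.degree θ = 9 ∧ S.ε = -1 := by
    rw [hθd] at hθY
    rcases (show f = 1 ∨ f = 2 ∨ f = 3 by omega) with rfl | rfl | rfl
    · exfalso
      have hW0 : W = ∅ := Finset.card_eq_zero.1 (by omega)
      rw [hW0, Finset.sum_empty] at hrel
      interval_cases s₀ <;> rcases S.hε with e | e <;> rw [e] at hθY hrel <;> norm_num [hθd] at *
    · exfalso
      interval_cases s₀ <;> rcases S.hε with e | e <;> rw [e] at hθY <;> norm_num at *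
    · rcases S.hε with e | e <;> rw [e] at hθY
      · interval_cases s₀ <;> norm_num at *
      · interval_cases s₀ <;>
          first | (exfalso; norm_num at hθY; done) | exact ⟨rfl, hθd.trans (by norm_num), e⟩
  obtain ⟨rfl, hθ9, hε⟩ := hθd9
  rw [hθ9, hε] at hrel
  push_cast at hrel
  have hW6 : ∑ x ∈ W, S.εX x * (Char.degree x : ℤ) = 6 := by linarith
  have hWc6 : W.card = 6 := by omega
  -- the congruence on `|N(P)|`
  have ha3 : (a - 3) % 8 = 1 := by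
    have hk' : k = 9 * 2 ^ (a - 3) := by
      refine Nat.eq_of_mul_eq_mul_left (Nat.two_pow_pos 3) ?_
      rw [← hk, mul_left_comm, ← pow_add, Nat.add_sub_cancel' (by omega)]
    rw [hk'] at hqk
    push_cast at hqk
    have h' : (((9 : ℤ) * 2 ^ (a - 3) - 1 : ℤ) : ZMod 17) = 0 :=
      (ZMod.intCast_zmod_eq_zero_iff_dvd _ 17).2 (by exact_mod_cast hqk)
    push_cast at h'
    rw [sub_eq_zero, pow_mod8] at h'
    set j : Fin 8 := ⟨(a - 3) % 8, Nat.mod_lt _ (by norm_num)⟩ with hj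
    exact res17_cong j h'
  -- the characters of degree 18
  set W18 := W.filter fun x => Char.degree x = 18 with hW18
  set W' := W.filter fun x => ¬ Char.degree x = 18 with hW'
  have h18 : ∀ x ∈ W18, S.εX x = 1 := by
    intro x hx
    obtain ⟨hxW, hx18⟩ := Finset.mem_filter.1 hx
    obtain ⟨s, u, hd, -, h⟩ := hcase x hxW
    rcases h with ⟨rfl, h4, h0⟩ | ⟨rfl, h4, h1⟩
    · exfalso
      rw [hx18, pow_zero, one_mul] at hd
      rcases lt_or_ge u 8 with h8 | h8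
      · interval_cases u <;> omega
      · have : 2 ^ 8 ≤ 2 ^ u := Nat.pow_le_pow_right (by norm_num) h8
        omega
    · refine h1 ?_
      rw [hx18] at hd
      exact Nat.pow_right_injective (le_refl 2) (show 2 ^ u = 2 ^ 1 by omega)
  have hval : ∀ x ∈ W', ∃ t : ℤ,
      S.εX x * (Char.degree x : ℤ) = -16 * t ∧ (t = 1 ∨ t = 18 ∨ (16 : ℤ) ∣ t) := by
    intro x hx
    obtain ⟨hxW, hx18⟩ := Finset.mem_filter.1 hx
    obtain ⟨s, u, hd, hdvd, h⟩ := hcase x hxW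
    rw [hd]
    push_cast
    refine classify_value ?_ (S.hεX x (hWsub x hxW).2) hdvd
    rcases h with h | ⟨rfl, h4, h1⟩
    · exact Or.inl h
    · exact Or.inr ⟨rfl, h4, fun h => hx18 (by rw [hd, h]; norm_num)⟩
  have hsum18 : ∑ x ∈ W18, S.εX x * (Char.degree x : ℤ) = 18 * W18.card := by
    rw [Finset.sum_congr rfl fun x hx => show S.εX x * (Char.degree x : ℤ) = 18 by
      rw [h18 x hx, (Finset.mem_filter.1 hx).2]; norm_num, Finset.sum_const, nsmul_eq_mul]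
    ring
  have hadd : ∑ x ∈ W18, S.εX x * (Char.degree x : ℤ) +
      ∑ x ∈ W', S.εX x * (Char.degree x : ℤ) = 6 := by
    rw [hW18, hW', Finset.sum_filter_add_sum_filter_not, hW6]
  have h16 : (16 : ℤ) ∣ ∑ x ∈ W', S.εX x * (Char.degree x : ℤ) := Finset.dvd_sum fun x hx => by
    obtain ⟨t, ht, -⟩ := hval x hx
    rw [ht]
    exact ⟨-t, by ring⟩
  have hcard18 : W18.card + W'.card = 6 := by
    rw [hW18, hW', Finset.card_filter_add_card_filter_not, hWc6]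
  have h3 : W18.card = 3 := by omega
  obtain ⟨p₁, p₂, p₃, hp12, hp13, hp23, hpW⟩ := Finset.card_eq_three.1 h3
  obtain ⟨r₁, r₂, r₃, hr12, hr13, hr23, hrW⟩ := Finset.card_eq_three.1 (show W'.card = 3 by omega)
  have hWsum : ∀ F : IrrCharacter G → ℂ,
      ∑ x ∈ W, F x = F p₁ + F p₂ + F p₃ + (F r₁ + F r₂ + F r₃) := by
    intro F
    rw [← Finset.sum_filter_add_sum_filter_not W (fun x => Char.degree x = 18), ← hW18, ← hW',
      hpW, hrW, Finset.sum_insert (by simp [hp12, hp13]), Finset.sum_pair hp23,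
      Finset.sum_insert (by simp [hr12, hr13]), Finset.sum_pair hr23]
    ring
  -- values at `v`
  have hint : ∀ x : IrrCharacter G, ∃ z : ℤ, x.1 v = z := fun x =>
    Exceptional.exists_int_apply_invol (Char.irr_isCharacter x)
      (by rw [← sq, ← hv, pow_orderOf_eq_one])
  choose z hz using hint
  have hpmem : ∀ x, x = p₁ ∨ x = p₂ ∨ x = p₃ → x ∈ W18 := by
    intro x hx; rw [hpW]; simpa using hx
  have hrmem : ∀ x, x = r₁ ∨ x = r₂ ∨ x = r₃ → x ∈ W' := by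
    intro x hx; rw [hrW]; simpa using hx
  have hbound : ∀ x : IrrCharacter G, -(Char.degree x : ℤ) ≤ z x ∧ z x ≤ (Char.degree x : ℤ) := by
    intro x
    have h := CharInt.norm_char_le (Char.irr_isCharacter x) v
    rw [hz, Char.apply_one_eq_degree, Complex.norm_natCast, Complex.norm_intCast] at h
    have h' : |z x| ≤ (Char.degree x : ℤ) := by exact_mod_cast h
    exact abs_le.1 h'
  have hp : ∀ x ∈ W18, ∃ k : ℤ, z x = 2 * k := by
    intro x hx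
    exact dvd_int_value (hz x) (d := 2) (by rw [(Finset.mem_filter.1 hx).2]; norm_num)
      ((Nat.prime_two.coprime_iff_not_dvd).2 hodd).symm
  obtain ⟨k₁, hk₁⟩ := hp p₁ (hpmem _ (Or.inl rfl))
  obtain ⟨k₂, hk₂⟩ := hp p₂ (hpmem _ (Or.inr (Or.inl rfl)))
  obtain ⟨k₃, hk₃⟩ := hp p₃ (hpmem _ (Or.inr (Or.inr rfl)))
  have hp16 : ∀ x ∈ W', S.εX x * (Char.degree x : ℤ) = -16 ∨
      S.εX x * (Char.degree x : ℤ) = 256 → x.1 v = 0 := by
    intro x hx h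
    have hxW := (Finset.mem_filter.1 hx).1
    have hd : Char.degree x = 2 ^ 4 ∨ Char.degree x = 2 ^ 8 := by
      rcases S.hεX x (hWsub x hxW).2 with e | e <;> rw [e] at h <;> rcases h with h | h <;> omega
    rcases hd with hd | hd <;> exact apply_eq_zero_two_pow D.hna hv hodd (hWsub x hxW).1 hd
  have hp288 : ∀ x ∈ W', S.εX x * (Char.degree x : ℤ) = -288 →
      S.εX x = -1 ∧ Char.degree x = 288 ∧ ∃ e : ℤ, z x = 32 * e := by
    intro x hx h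
    have hxW := (Finset.mem_filter.1 hx).1
    have hd : S.εX x = -1 ∧ Char.degree x = 288 := by
      rcases S.hεX x (hWsub x hxW).2 with e | e <;> rw [e] at h <;> omega
    refine ⟨hd.1, hd.2, ?_⟩
    exact dvd_int_value (hz x) (d := 32) (by rw [hd.2]; norm_num)
      (Nat.Coprime.pow_right 5 ((Nat.prime_two.coprime_iff_not_dvd).2 hodd).symm)
  obtain ⟨t₁, ht₁, ht₁'⟩ := hval r₁ (hrmem _ (Or.inl rfl))
  obtain ⟨t₂, ht₂, ht₂'⟩ := hval r₂ (hrmem _ (Or.inr (Or.inl rfl)))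
  obtain ⟨t₃, ht₃, ht₃'⟩ := hval r₃ (hrmem _ (Or.inr (Or.inr rfl)))
  rw [hsum18, h3, hrW, Finset.sum_insert (by simp [hr12, hr13]), Finset.sum_pair hr23, ht₁, ht₂, ht₃]
    at hadd
  have htsum : t₁ + t₂ + t₃ = 3 := by push_cast at hadd; linarith
  -- at most one degree 288
  obtain ⟨e, he1, he2⟩ : ∃ e : ℤ,
      (S.εX r₁ : ℂ) * r₁.1 v + (S.εX r₂ : ℂ) * r₂.1 v + (S.εX r₃ : ℂ) * r₃.1 v = -32 * (e : ℂ) ∧
      (S.εX r₁ : ℂ) * r₁.1 v ^ 2 / (Char.degree r₁ : ℂ) +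
        (S.εX r₂ : ℂ) * r₂.1 v ^ 2 / (Char.degree r₂ : ℂ) +
        (S.εX r₃ : ℂ) * r₃.1 v ^ 2 / (Char.degree r₃ : ℂ) = -(32 * (e : ℂ) ^ 2) / 9 := by
    have m₁ := hrmem r₁ (Or.inl rfl)
    have m₂ := hrmem r₂ (Or.inr (Or.inl rfl))
    have m₃ := hrmem r₃ (Or.inr (Or.inr rfl))
    have hcases : (t₁ = 1 ∧ t₂ = 1 ∧ t₃ = 1) ∨
        (t₁ = 18 ∧ (t₂ = 1 ∨ t₂ = -16) ∧ (t₃ = 1 ∨ t₃ = -16)) ∨
        (t₂ = 18 ∧ (t₁ = 1 ∨ t₁ = -16) ∧ (t₃ = 1 ∨ t₃ = -16)) ∨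
        (t₃ = 18 ∧ (t₁ = 1 ∨ t₁ = -16) ∧ (t₂ = 1 ∨ t₂ = -16)) := by
      rcases ht₁' with rfl | rfl | ⟨c₁, rfl⟩ <;> rcases ht₂' with rfl | rfl | ⟨c₂, rfl⟩ <;>
        rcases ht₃' with rfl | rfl | ⟨c₃, rfl⟩ <;> omega
    rcases hcases with ⟨h1, h2, h3'⟩ | ⟨h1, h2, h3'⟩ | ⟨h1, h2, h3'⟩ | ⟨h1, h2, h3'⟩
    · refine ⟨0, ?_, ?_⟩ <;>
        rw [hp16 r₁ m₁ (by omega), hp16 r₂ m₂ (by omega), hp16 r₃ m₃ (by omega)] <;> simp
    · obtain ⟨ee, hd, e, hze⟩ := hp288 r₁ m₁ (by omega)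
      refine ⟨e, ?_, ?_⟩ <;>
        rw [hp16 r₂ m₂ (by omega), hp16 r₃ m₃ (by omega), hz r₁, hze, ee] <;> simp [hd] <;> ring
    · obtain ⟨ee, hd, e, hze⟩ := hp288 r₂ m₂ (by omega)
      refine ⟨e, ?_, ?_⟩ <;>
        rw [hp16 r₁ m₁ (by omega), hp16 r₃ m₃ (by omega), hz r₂, hze, ee] <;> simp [hd] <;> ring
    · obtain ⟨ee, hd, e, hze⟩ := hp288 r₃ m₃ (by omega)
      refine ⟨e, ?_, ?_⟩ <;>
        rw [hp16 r₁ m₁ (by omega), hp16 r₂ m₂ (by omega), hz r₃, hze, ee] <;> simp [hd] <;> ring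
  have hd18 : ∀ x, x = p₁ ∨ x = p₂ ∨ x = p₃ → (Char.degree x : ℂ) = 18 ∧ S.εX x = 1 := fun x hx =>
    ⟨by rw [(Finset.mem_filter.1 (hpmem x hx)).2]; norm_num, h18 x (hpmem x hx)⟩
  obtain ⟨d₁, e₁⟩ := hd18 p₁ (Or.inl rfl)
  obtain ⟨d₂, e₂⟩ := hd18 p₂ (Or.inr (Or.inl rfl))
  obtain ⟨d₃, e₃⟩ := hd18 p₃ (Or.inr (Or.inr rfl))
  have hχv : χ.1 v = 0 := apply_eq_zero_two_pow D.hna hv hodd (u := 4) hne (by rw [hχ]; norm_num)
  have hθv : -(z θ) = 1 + 2 * k₁ + 2 * k₂ + 2 * k₃ - 32 * e := by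
    have h := S.relation θ hθ v (show ¬ 17 ∣ orderOf v by rw [hv]; norm_num)
    rw [hsplit, hWsum, eX_trivial D.hSC S hT, hεχ, hχv, hε, Char.trivialChar_apply, e₁, e₂, e₃,
      hz p₁, hz p₂, hz p₃, hk₁, hk₂, hk₃, he1, hz θ] at h
    push_cast at h
    have h' : ((-(z θ) : ℤ) : ℂ) = ((1 + 2 * k₁ + 2 * k₂ + 2 * k₃ - 32 * e : ℤ) : ℂ) := by
      push_cast
      linear_combination h
    exact_mod_cast h'
  obtain ⟨n, hn, hdvd⟩ := pairs D.hna D.hq2 D.hcard D.hSC D.hpM S hv hodd hθ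
  set T : ℤ := 9 + z θ ^ 2 + 2 * k₁ ^ 2 + 2 * k₂ ^ 2 + 2 * k₃ ^ 2 - 32 * e ^ 2 with hTdef
  have hn' : (n : ℤ) = 17 * (T * 2 ^ a) := by
    rw [hsplit, hWsum, eX_trivial D.hSC S hT, hεχ, hχv, hε, Char.trivialChar_apply, degree_trivial,
      e₁, e₂, e₃, d₁, d₂, d₃, hz p₁, hz p₂, hz p₃, hk₁, hk₂, hk₃, he2, hz θ, hθ9, D.hcard] at hn
    have h' : ((n : ℤ) : ℂ) = ((17 * (T * 2 ^ a) : ℤ) : ℂ) := by
      rw [hTdef]
      push_cast at hn ⊢
      rw [hn]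
      ring
    exact_mod_cast h'
  have hTpos : 0 < T := by
    rw [hTdef]
    nlinarith [sq_nonneg (k₁ - k₂), sq_nonneg (k₁ - k₃), sq_nonneg (k₂ - k₃), sq_nonneg (k₁ - z θ),
      sq_nonneg (k₂ - z θ), sq_nonneg (k₃ - z θ), sq_nonneg (25 * e - 1), sq_nonneg e]
  have hdvdT : ((2 : ℤ) ^ a) ∣ T := by
    have h : ((17 * (2 ^ a * 2 ^ a) : ℕ) : ℤ) ∣ (n : ℤ) := Int.natCast_dvd_natCast.2 hdvd
    rw [hn'] at h
    push_cast at h
    exact Int.dvd_of_mul_dvd_mul_right (pow_ne_zero a two_ne_zero)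
      (Int.dvd_of_mul_dvd_mul_left (show (17 : ℤ) ≠ 0 by norm_num) h)
  have hTle : T < 1024 := by
    obtain ⟨b1, b1'⟩ := hbound θ
    obtain ⟨c1, c1'⟩ := hbound p₁
    obtain ⟨c2, c2'⟩ := hbound p₂
    obtain ⟨c3, c3'⟩ := hbound p₃
    rw [hθ9] at b1 b1'
    rw [(Finset.mem_filter.1 (hpmem p₁ (Or.inl rfl))).2, hk₁] at c1 c1'
    rw [(Finset.mem_filter.1 (hpmem p₂ (Or.inr (Or.inl rfl)))).2, hk₂] at c2 c2'
    rw [(Finset.mem_filter.1 (hpmem p₃ (Or.inr (Or.inr rfl)))).2, hk₃] at c3 c3'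
    push_cast at b1 b1' c1 c1' c2 c2' c3 c3'
    rw [hTdef]
    nlinarith [sq_nonneg e]
  have hlt : (2 : ℤ) ^ a < 2 ^ 10 := lt_of_le_of_lt (Int.le_of_dvd hTpos hdvdT) (by norm_num; exact hTle)
  have hlt' : a < 10 := (pow_lt_pow_iff_right₀ (by norm_num : (1 : ℤ) < 2)).1 hlt
  omega

end Cfsg.Agent.NineTwoQ
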