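import Cfsg.Agent.Lib.SmithTyrer.Main
import Cfsg.Agent.Lib.Transfer.Burnside

/-!
# Simple groups with a Sylow 3-subgroup of order 9 and three classes of 3-elements
-/

set_option autoImplicit false
set_option linter.style.haveILetI false
set_option linter.unusedSectionVars false

namespace Cfsg.Agent.NineTwoQ

open Cfsg Cfsg.Agent
open scoped Classical

universe u

variable {G : Type u} [Group G] [Finite G] [IsSimpleGroup G]

theorem comm_of_card_nine {R : Sylow 3 G} (hR : Nat.card R = 9) :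
    IsMulCommutative (R : Subgroup G) :=
  ⟨⟨fun a b => IsPGroup.commutative_of_card_eq_prime_sq (p := 3) (by rw [hR]; norm_num) a b⟩⟩

/-- Nothing in `R` is fixed by its normaliser. -/
theorem eq_one_of_fixed (hna : ∃ a b : G, a * b ≠ b * a) {R : Sylow 3 G}
    (hab : IsMulCommutative (R : Subgroup G)) {y : G} (hy : y ∈ (R : Subgroup G))
    (hfix : ∀ g ∈ Subgroup.normalizer ((R : Subgroup G) : Set G), g * y * g⁻¹ = y) : y = 1 := by
  obtain ⟨f, hf⟩ := Transfer.exists_surjective_inf_centralizer_normalizer R hab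
  obtain ⟨g, hg⟩ := hf ⟨y, hy, Subgroup.mem_centralizer_iff.2 fun n hn =>
    mul_inv_eq_iff_eq_mul.1 (hfix n hn)⟩
  rcases (MonoidHom.normal_ker f).eq_bot_or_eq_top with h | h
  · obtain ⟨a, b, hne⟩ := hna
    refine absurd ((MonoidHom.ker_eq_bot_iff f).1 h ?_) hne
    rw [map_mul, map_mul]
    exact Subtype.ext (SmithTyrer.mul_comm_of_mem hab (f a).2.1 (f b).2.1)
  · rw [MonoidHom.mem_ker.1 (h ▸ Subgroup.mem_top g)] at hg
    exact (congrArg Subtype.val hg).symm

/-- The orbit of an element of `R` under the normaliser. -/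
noncomputable def orbit3 [Fintype G] (R : Sylow 3 G) (r : G) : Finset G :=
  Finset.univ.filter fun s => ∃ n ∈ Subgroup.normalizer ((R : Subgroup G) : Set G), n * r * n⁻¹ = s

theorem not_three_dvd_orbit [Fintype G] {R : Sylow 3 G} (hab : IsMulCommutative (R : Subgroup G))
    {r : G} (hr : r ∈ (R : Subgroup G)) : ¬ 3 ∣ (orbit3 R r).card := by
  set N := Subgroup.normalizer ((R : Subgroup G) : Set G) with hN
  let act : MulAction N G := MulAction.compHom G (MulAut.conj.comp N.subtype)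
  letI := act
  have hsm : ∀ (n : N) (s : G), n • s = (n : G) * s * (n : G)⁻¹ := fun n s => rfl
  have horb : (orbit3 R r).card = (MulAction.stabilizer N r).index := by
    rw [MulAction.index_stabilizer, ← Nat.card_eq_finsetCard, ← Nat.card_coe_set_eq]
    refine Nat.card_congr (Equiv.subtypeEquivRight fun s => ?_)
    simp only [orbit3, Finset.mem_filter, Finset.mem_univ, true_and, MulAction.mem_orbit_iff]
    exact ⟨fun ⟨n, hn, e⟩ => ⟨⟨n, hn⟩, e⟩, fun ⟨n, e⟩ => ⟨n, n.2, e⟩⟩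
  rw [horb]
  intro h3
  have hle : (R : Subgroup G).subgroupOf N ≤ MulAction.stabilizer N r := fun n hn => by
    rw [MulAction.mem_stabilizer_iff, hsm,
      SmithTyrer.mul_comm_of_mem hab (Subgroup.mem_subgroupOf.1 hn) hr, mul_inv_cancel_right]
  refine R.not_dvd_index ((h3.trans (Subgroup.index_dvd_of_le hle)).trans ?_)
  exact Subgroup.relIndex_dvd_index_of_le Subgroup.le_normalizer

/-- Three pairwise non-conjugate non-trivial elements of `R`. -/
theorem exists_three_reps (R : Sylow 3 G)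
    (h3 : 3 ≤ Nat.card {C : ConjClasses G // ∃ g ∈ C.carrier, g ≠ 1 ∧ orderOf g ∣ 9}) :
    ∃ r : Fin 3 → G, (∀ i, r i ∈ (R : Subgroup G) ∧ r i ≠ 1) ∧
      ∀ i j, IsConj (r i) (r j) → i = j := by
  haveI : Fintype {C : ConjClasses G // ∃ g ∈ C.carrier, g ≠ 1 ∧ orderOf g ∣ 9} := Fintype.ofFinite _
  rw [Nat.card_eq_fintype_card] at h3
  obtain ⟨e⟩ := Function.Embedding.nonempty_of_card_le (α := Fin 3)
    (β := {C : ConjClasses G // ∃ g ∈ C.carrier, g ≠ 1 ∧ orderOf g ∣ 9})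
    (by rw [Fintype.card_fin]; exact h3)
  have hex : ∀ i, ∃ r, r ∈ (R : Subgroup G) ∧ r ≠ 1 ∧ ConjClasses.mk r = (e i).1 := by
    intro i
    obtain ⟨g, hg, hg1, hg9⟩ := (e i).2
    have hp : IsPGroup 3 (Subgroup.zpowers g) := by
      obtain ⟨k, -, hk⟩ := (Nat.dvd_prime_pow Nat.prime_three).1
        (show orderOf g ∣ 3 ^ 2 by norm_num; exact hg9)
      exact IsPGroup.of_card (n := k) (by rw [Nat.card_zpowers, hk])
    obtain ⟨S, hS⟩ := hp.exists_le_sylow
    obtain ⟨a, ha⟩ := MulAction.exists_smul_eq G S R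
    refine ⟨a * g * a⁻¹, ?_, fun h => hg1 (by simpa using h), ?_⟩
    · rw [← ha]
      exact ⟨g, hS (Subgroup.mem_zpowers g), rfl⟩
    · rw [ConjClasses.mem_carrier_iff_mk_eq] at hg
      rw [← hg]
      exact (ConjClasses.mk_eq_mk_iff_isConj.2 (isConj_iff.2 ⟨a, rfl⟩)).symm
  choose r hr hr1 hrc using hex
  refine ⟨r, fun i => ⟨hr i, hr1 i⟩, fun i j h => e.injective (Subtype.ext ?_)⟩
  rw [← hrc i, ← hrc j]
  exact ConjClasses.mk_eq_mk_iff_isConj.2 h

/-- Two independent elements of `R`, each inverted or fixed by every normalising element. -/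
theorem exists_two_axes (hna : ∃ a b : G, a * b ≠ b * a) {R : Sylow 3 G} (hR : Nat.card R = 9)
    (h3 : 3 ≤ Nat.card {C : ConjClasses G // ∃ g ∈ C.carrier, g ≠ 1 ∧ orderOf g ∣ 9}) :
    ∃ x y : G, x ∈ (R : Subgroup G) ∧ y ∈ (R : Subgroup G) ∧ x ≠ 1 ∧ y ≠ 1 ∧ y ≠ x ∧ y ≠ x⁻¹ ∧
      (∀ n ∈ Subgroup.normalizer ((R : Subgroup G) : Set G),
        (n * x * n⁻¹ = x ∨ n * x * n⁻¹ = x⁻¹) ∧ (n * y * n⁻¹ = y ∨ n * y * n⁻¹ = y⁻¹)) := by
  haveI := Fintype.ofFinite G
  have hab := comm_of_card_nine hR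
  obtain ⟨r, hr, hrc⟩ := exists_three_reps R h3
  set N := Subgroup.normalizer ((R : Subgroup G) : Set G) with hN
  have hmem : ∀ {a b : G}, b ∈ orbit3 R a → ∃ n ∈ N, n * a * n⁻¹ = b := fun hb =>
    (Finset.mem_filter.1 hb).2
  have hself : ∀ a : G, a ∈ orbit3 R a := fun a =>
    Finset.mem_filter.2 ⟨Finset.mem_univ _, 1, one_mem _, by group⟩
  have hsub : ∀ a ∈ (R : Subgroup G), a ≠ 1 → orbit3 R a ⊆
      Finset.univ.filter fun s => s ∈ (R : Subgroup G) ∧ s ≠ 1 := by
    intro a ha ha1 b hb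
    obtain ⟨n, hn, rfl⟩ := hmem hb
    exact Finset.mem_filter.2 ⟨Finset.mem_univ _, (Subgroup.mem_normalizer_iff.1 hn a).1 ha,
      fun h => ha1 (by simpa using h)⟩
  have hdisj : ∀ i j, i ≠ j → Disjoint (orbit3 R (r i)) (orbit3 R (r j)) := by
    intro i j hij
    refine Finset.disjoint_left.2 fun b hb hb' => hij (hrc i j ?_)
    obtain ⟨n, -, hn⟩ := hmem hb
    obtain ⟨n', -, hn'⟩ := hmem hb'
    exact (isConj_iff.2 ⟨n, hn⟩).trans (isConj_iff.2 ⟨n', hn'⟩).symm
  have htot : (orbit3 R (r 0)).card + (orbit3 R (r 1)).card + (orbit3 R (r 2)).card ≤ 8 := by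
    rw [← Finset.card_union_of_disjoint (hdisj 0 1 (by decide)),
      ← Finset.card_union_of_disjoint
        (Finset.disjoint_union_left.2 ⟨hdisj 0 2 (by decide), hdisj 1 2 (by decide)⟩)]
    refine (Finset.card_le_card (Finset.union_subset (Finset.union_subset
      (hsub _ (hr 0).1 (hr 0).2) (hsub _ (hr 1).1 (hr 1).2)) (hsub _ (hr 2).1 (hr 2).2))).trans ?_
    have h9 : (Finset.univ.filter fun s => s ∈ (R : Subgroup G)).card = 9 := by
      rw [← Fintype.card_subtype, ← Nat.card_eq_fintype_card]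
      exact hR
    rw [show (Finset.univ.filter fun s => s ∈ (R : Subgroup G) ∧ s ≠ 1) =
        (Finset.univ.filter fun s => s ∈ (R : Subgroup G)).erase 1 by ext; simp [and_comm],
      Finset.card_erase_of_mem (by simp), h9]
  have hne1 : ∀ i, (orbit3 R (r i)).card ≠ 1 := by
    intro i h1
    obtain ⟨a, ha⟩ := Finset.card_eq_one.1 h1
    refine (hr i).2 (eq_one_of_fixed hna hab (hr i).1 fun g hg => ?_)
    have e1 : g * r i * g⁻¹ ∈ orbit3 R (r i) :=
      Finset.mem_filter.2 ⟨Finset.mem_univ _, g, hg, rfl⟩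
    have e2 := hself (r i)
    rw [ha, Finset.mem_singleton] at e1 e2
    exact e1.trans e2.symm
  have hpos : ∀ i, (orbit3 R (r i)).card ≠ 0 := fun i =>
    (Finset.card_pos.2 ⟨_, hself (r i)⟩).ne'
  have h3' : ∀ i, ¬ 3 ∣ (orbit3 R (r i)).card := fun i => not_three_dvd_orbit hab (hr i).1
  obtain ⟨i, j, hij, hi, hj⟩ : ∃ i j, i ≠ j ∧ (orbit3 R (r i)).card = 2 ∧
      (orbit3 R (r j)).card = 2 := by
    have a0 := hne1 0; have a1 := hne1 1; have a2 := hne1 2
    have b0 := hpos 0; have b1 := hpos 1; have b2 := hpos 2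
    have c0 := h3' 0; have c1 := h3' 1; have c2 := h3' 2
    by_cases e0 : (orbit3 R (r 0)).card = 2
    · by_cases e1 : (orbit3 R (r 1)).card = 2
      · exact ⟨0, 1, by decide, e0, e1⟩
      · exact ⟨0, 2, by decide, e0, by omega⟩
    · exact ⟨1, 2, by decide, by omega, by omega⟩
  have haxis : ∀ a ∈ (R : Subgroup G), (orbit3 R a).card = 2 →
      orbit3 R a = {a, a⁻¹} := by
    intro a ha h2
    obtain ⟨b, c, hbc, he⟩ := Finset.card_eq_two.1 h2
    obtain ⟨d, hd, hed⟩ : ∃ d, d ≠ a ∧ orbit3 R a = {a, d} := by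
      have := hself a
      rw [he, Finset.mem_insert, Finset.mem_singleton] at this
      rcases this with h | h
      · exact ⟨c, fun e => hbc (by rw [← h, e]), by rw [he, h]⟩
      · exact ⟨b, fun e => hbc (by rw [← h, e]), by rw [he, h, Finset.pair_comm]⟩
    obtain ⟨n, hn, hnd⟩ := hmem (show d ∈ orbit3 R a by rw [hed]; simp)
    have hdR : d ∈ (R : Subgroup G) := hnd ▸ (Subgroup.mem_normalizer_iff.1 hn a).1 ha
    have hfix : a * d = 1 := by
      refine eq_one_of_fixed hna hab (mul_mem ha hdR) fun g hg => ?_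
      have e1 : g * a * g⁻¹ ∈ orbit3 R a := Finset.mem_filter.2 ⟨Finset.mem_univ _, g, hg, rfl⟩
      have e2 : g * d * g⁻¹ ∈ orbit3 R a := Finset.mem_filter.2
        ⟨Finset.mem_univ _, g * n, mul_mem hg hn, by rw [← hnd]; group⟩
      rw [hed, Finset.mem_insert, Finset.mem_singleton] at e1 e2
      have hne : g * a * g⁻¹ ≠ g * d * g⁻¹ := fun e =>
        hd (mul_left_cancel (mul_right_cancel e)).symm
      rw [SmithTyrer.conj_mul_conj]
      rcases e1 with e1 | e1 <;> rcases e2 with e2 | e2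
      · exact absurd (e1.trans e2.symm) hne
      · rw [e1, e2]
      · rw [e1, e2]; exact SmithTyrer.mul_comm_of_mem hab hdR ha
      · exact absurd (e1.trans e2.symm) hne
    rw [hed, eq_inv_of_mul_eq_one_right hfix]
  refine ⟨r i, r j, (hr i).1, (hr j).1, (hr i).2, (hr j).2,
    fun e => hij (hrc i j (by rw [e])), fun e => hij (hrc i j ?_), fun n hn => ⟨?_, ?_⟩⟩
  · obtain ⟨n, -, hn⟩ := hmem (show (r i)⁻¹ ∈ orbit3 R (r i) by rw [haxis _ (hr i).1 hi]; simp)
    rw [e]
    exact isConj_iff.2 ⟨n, hn⟩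
  · have : n * r i * n⁻¹ ∈ orbit3 R (r i) := Finset.mem_filter.2 ⟨Finset.mem_univ _, n, hn, rfl⟩
    simpa [haxis _ (hr i).1 hi] using this
  · have : n * r j * n⁻¹ ∈ orbit3 R (r j) := Finset.mem_filter.2 ⟨Finset.mem_univ _, n, hn, rfl⟩
    simpa [haxis _ (hr j).1 hj] using this

/-- Coordinates on an elementary abelian group of order 9 with a sign action of `V₄`. -/
structure VFour (R : Sylow 3 G) where
  x : G
  y : G
  hx : x ∈ (R : Subgroup G)
  hy : y ∈ (R : Subgroup G)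
  x3 : x ^ 3 = 1
  y3 : y ^ 3 = 1
  inj : Function.Injective fun ij : ZMod 3 × ZMod 3 => x ^ ij.1.val * y ^ ij.2.val
  surj : ∀ r ∈ (R : Subgroup G), ∃ ij : ZMod 3 × ZMod 3, x ^ ij.1.val * y ^ ij.2.val = r
  sgn : ∀ n ∈ Subgroup.normalizer ((R : Subgroup G) : Set G),
    (n * x * n⁻¹ = x ∨ n * x * n⁻¹ = x⁻¹) ∧ (n * y * n⁻¹ = y ∨ n * y * n⁻¹ = y⁻¹)
  n₁ : G
  hn₁ : n₁ ∈ Subgroup.normalizer ((R : Subgroup G) : Set G) ∧ n₁ * x * n₁⁻¹ = x⁻¹ ∧ n₁ * y * n₁⁻¹ = y
  n₂ : G
  hn₂ : n₂ ∈ Subgroup.normalizer ((R : Subgroup G) : Set G) ∧ n₂ * x * n₂⁻¹ = x ∧ n₂ * y * n₂⁻¹ = y⁻¹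

omit [IsSimpleGroup G] in
theorem zmod3_val_pow_add {x : G} (hx : x ^ 3 = 1) (a b : ZMod 3) :
    x ^ (a + b).val = x ^ a.val * x ^ b.val := by
  rw [← pow_add, ZMod.val_add, pow_mod_orderOf_aux hx]
where
  pow_mod_orderOf_aux {x : G} {n : ℕ} (hx : x ^ 3 = 1) : x ^ (n % 3) = x ^ n := by
    conv_rhs => rw [← Nat.mod_add_div n 3, pow_add, pow_mul, hx, one_pow, mul_one]

/-- The dichotomy: cyclic, or the sign group `V₄`. -/
theorem cyclic_or_vfour (hna : ∃ a b : G, a * b ≠ b * a) {R : Sylow 3 G} (hR : Nat.card R = 9)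
    (h3 : 3 ≤ Nat.card {C : ConjClasses G // ∃ g ∈ C.carrier, g ≠ 1 ∧ orderOf g ∣ 9}) :
    IsCyclic (R : Subgroup G) ∨ Nonempty (VFour R) := by
  haveI := Fintype.ofFinite G
  by_cases hcyc : IsCyclic (R : Subgroup G)
  · exact Or.inl hcyc
  right
  have hab := comm_of_card_nine hR
  have hexp : ∀ r ∈ (R : Subgroup G), r ^ 3 = 1 := by
    intro r hr
    have h1 : orderOf r ∣ 3 ^ 2 := by
      have := orderOf_dvd_natCard (⟨r, hr⟩ : (R : Subgroup G))
      rw [Subgroup.orderOf_mk, show Nat.card (R : Subgroup G) = 9 from hR] at this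
      norm_num; exact this
    obtain ⟨k, hk, hk'⟩ := (Nat.dvd_prime_pow Nat.prime_three).1 h1
    interval_cases k
    · exact orderOf_dvd_iff_pow_eq_one.1 (by rw [hk']; norm_num)
    · exact orderOf_dvd_iff_pow_eq_one.1 (by rw [hk']; norm_num)
    · refine absurd (isCyclic_of_orderOf_eq_card (⟨r, hr⟩ : (R : Subgroup G)) ?_) hcyc
      rw [Subgroup.orderOf_mk, hk', show Nat.card (R : Subgroup G) = 9 from hR]; norm_num
  obtain ⟨x, y, hx, hy, hx1, hy1, hyx, hyx', hsgn⟩ := exists_two_axes hna hR h3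
  have x3 := hexp x hx
  have y3 := hexp y hy
  have hcomm : ∀ {a b : G}, a ∈ (R : Subgroup G) → b ∈ (R : Subgroup G) → a * b = b * a :=
    fun ha hb => SmithTyrer.mul_comm_of_mem hab ha hb
  set e : ZMod 3 × ZMod 3 → G := fun ij => x ^ ij.1.val * y ^ ij.2.val with he
  have hinj : Function.Injective e := by
    have hadd : ∀ a b, e (a + b) = e a * e b := by
      intro a b
      simp only [he, Prod.fst_add, Prod.snd_add, zmod3_val_pow_add x3, zmod3_val_pow_add y3]
      rw [mul_assoc (x ^ a.1.val), ← mul_assoc (x ^ b.1.val),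
        hcomm (pow_mem hx b.1.val) (pow_mem hy a.2.val)]
      group
    have hker : ∀ a, e a = 1 → a = 0 := by
      rintro ⟨i, j⟩ h
      simp only [he] at h
      have hxx : x⁻¹ = x ^ 2 := by
        rw [inv_eq_iff_mul_eq_one, ← pow_succ']; exact x3
      have hne : ∀ i : ℕ, y ≠ x ^ i := by
        intro i hi
        rw [← zmod3_val_pow_add.pow_mod_orderOf_aux x3] at hi
        have : i % 3 < 3 := Nat.mod_lt _ (by norm_num)
        interval_cases (i % 3)
        · exact hy1 (by rw [hi, pow_zero])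
        · exact hyx (by rw [hi, pow_one])
        · exact hyx' (by rw [hi, hxx])
      fin_cases j
      · simp only [ZMod.val, Fin.val_zero, pow_zero, mul_one] at h
        fin_cases i
        · rfl
        · exact absurd (by simpa using h) hx1
        · refine absurd ?_ hx1
          have h' : x ^ 2 = 1 := h
          have := x3
          rwa [pow_succ, h', one_mul] at this
      · exfalso
        have h' : x ^ i.val * y = 1 := by simpa [ZMod.val] using h
        refine hne (2 * i.val) ?_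
        rw [eq_inv_of_mul_eq_one_right h', ← inv_pow, hxx, ← pow_mul]
      · exfalso
        have h' : x ^ i.val * y ^ 2 = 1 := h
        refine hne i.val ?_
        calc y = x ^ i.val * y ^ 2 * y := by rw [h', one_mul]
          _ = x ^ i.val := by rw [mul_assoc, ← pow_succ, y3, mul_one]
    intro a b hab'
    have : e (a - b) = 1 := by
      have h1 := hadd (a - b) b
      rw [sub_add_cancel, hab'] at h1
      exact mul_eq_right.1 h1.symm
    exact sub_eq_zero.1 (hker _ this)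
  have hsurj : ∀ r ∈ (R : Subgroup G), ∃ ij, e ij = r := by
    intro r hr
    have himg : Finset.univ.image e = Finset.univ.filter fun s => s ∈ (R : Subgroup G) := by
      refine Finset.eq_of_subset_of_card_le (fun s hs => ?_) ?_
      · obtain ⟨a, -, rfl⟩ := Finset.mem_image.1 hs
        exact Finset.mem_filter.2 ⟨Finset.mem_univ _, mul_mem (pow_mem hx _) (pow_mem hy _)⟩
      · rw [Finset.card_image_of_injective _ hinj, ← Fintype.card_subtype, ← Nat.card_eq_fintype_card,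
          show Nat.card {s // s ∈ (R : Subgroup G)} = 9 from hR]
        simp
    have : r ∈ Finset.univ.image e := by rw [himg]; simp [hr]
    obtain ⟨a, -, ha⟩ := Finset.mem_image.1 this
    exact ⟨a, ha⟩
  have hpow : ∀ n a : G, ∀ k : ℕ, n * a ^ k * n⁻¹ = (n * a * n⁻¹) ^ k := fun n a k => (conj_pow).symm
  obtain ⟨u, hu, hux⟩ : ∃ u ∈ Subgroup.normalizer ((R : Subgroup G) : Set G), u * x * u⁻¹ = x⁻¹ := by
    by_contra hno
    push Not at hno
    exact hx1 (eq_one_of_fixed hna hab hx fun g hg => (hsgn g hg).1.resolve_right (hno g hg))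
  obtain ⟨v, hv, hvy⟩ : ∃ v ∈ Subgroup.normalizer ((R : Subgroup G) : Set G), v * y * v⁻¹ = y⁻¹ := by
    by_contra hno
    push Not at hno
    exact hy1 (eq_one_of_fixed hna hab hy fun g hg => (hsgn g hg).2.resolve_right (hno g hg))
  have hmul : ∀ a b c : G, a * b * c * (a * b)⁻¹ = a * (b * c * b⁻¹) * a⁻¹ := fun a b c => by group
  have hinv : ∀ a c : G, a * c⁻¹ * a⁻¹ = (a * c * a⁻¹)⁻¹ := fun a c => by group
  rcases (hsgn u hu).2 with huy | huy
  · rcases (hsgn v hv).1 with hvx | hvx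
    · exact ⟨⟨x, y, hx, hy, x3, y3, hinj, hsurj, hsgn, u, ⟨hu, hux, huy⟩, v, ⟨hv, hvx, hvy⟩⟩⟩
    · exact ⟨⟨x, y, hx, hy, x3, y3, hinj, hsurj, hsgn, u, ⟨hu, hux, huy⟩, u * v,
        ⟨mul_mem hu hv, by rw [hmul, hvx, hinv, hux, inv_inv], by rw [hmul, hvy, hinv, huy]⟩⟩⟩
  · rcases (hsgn v hv).1 with hvx | hvx
    · exact ⟨⟨x, y, hx, hy, x3, y3, hinj, hsurj, hsgn, u * v,
        ⟨mul_mem hu hv, by rw [hmul, hvx, hux], by rw [hmul, hvy, hinv, huy, inv_inv]⟩,
        v, ⟨hv, hvx, hvy⟩⟩⟩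
    · -- `u` inverts everything; mixed elements must exist
      by_contra hV
      apply SmithTyrer.false_of_simple (P := R) _ (by norm_num)
      refine ⟨hab, hcyc, fun g hg => ?_, ⟨u, fun r hr => ?_⟩⟩
      · rcases (hsgn g hg).1 with hgx | hgx <;> rcases (hsgn g hg).2 with hgy | hgy
        · refine Or.inl fun r hr => ?_
          obtain ⟨a, rfl⟩ := hsurj r hr
          simp only [he, SmithTyrer.conj_mul_conj, hpow, hgx, hgy]
        · exact absurd ⟨⟨x, y, hx, hy, x3, y3, hinj, hsurj, hsgn, u * g,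
            ⟨mul_mem hu hg, by rw [hmul, hgx, hux], by rw [hmul, hgy, hinv, huy, inv_inv]⟩,
            g, ⟨hg, hgx, hgy⟩⟩⟩ hV
        · exact absurd ⟨⟨x, y, hx, hy, x3, y3, hinj, hsurj, hsgn, g, ⟨hg, hgx, hgy⟩, u * g,
            ⟨mul_mem hu hg, by rw [hmul, hgx, hinv, hux, inv_inv], by rw [hmul, hgy, huy]⟩⟩⟩ hV
        · refine Or.inr fun r hr => ?_
          obtain ⟨a, rfl⟩ := hsurj r hr
          simp only [he, SmithTyrer.conj_mul_conj, hpow, hgx, hgy, inv_pow, mul_inv_rev]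
          exact hcomm (inv_mem (pow_mem hx _)) (inv_mem (pow_mem hy _))
      · obtain ⟨a, rfl⟩ := hsurj r hr
        simp only [he, SmithTyrer.conj_mul_conj, hpow, hux, huy, inv_pow, mul_inv_rev]
        exact hcomm (inv_mem (pow_mem hx _)) (inv_mem (pow_mem hy _))

end Cfsg.Agent.NineTwoQ
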