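import Cfsg.Agent.Lib.NineTwoQ.Section
import Cfsg.Agent.Lib.NineTwoQ.ThreeConfig
import Cfsg.Agent.Lib.NineTwoQ.PrimeDegree
import Cfsg.Agent.Lib.Star.Integrality
import Cfsg.Agent.Lib.Star.Parts
import Cfsg.Agent.Lib.Char.Brauer
import Cfsg.Agent.Lib.Transfer.Burnside
import Cfsg.Agent.Lib.CharInt.RootsOfUnity

/-!
# The case of an elementary abelian Sylow 3-subgroup with sign group `V₄`

The class function equal to `3` on the sections of `x` and `x y` is a generalised character of norm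
`3`, giving two characters of the principal block of consecutive degrees prime to `3`.
-/

set_option autoImplicit false
set_option linter.style.haveILetI false
set_option linter.unusedSectionVars false

namespace Cfsg.Agent.NineTwoQ

open Cfsg Cfsg.Agent
open scoped ComplexConjugate Classical Cfsg.Agent.Blocks

universe u

/-- An element of a Sylow subgroup whose centraliser meets the normaliser in the centraliser has a
`p`-nilpotent centraliser. -/
theorem hasNormalPComplement_of_free {G : Type u} [Group G] [Finite G] {p : ℕ} [Fact p.Prime]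
    {P : Sylow p G} (hab : IsMulCommutative (P : Subgroup G)) {w : G} (hw : w ∈ (P : Subgroup G))
    (hfree : ∀ g ∈ Subgroup.normalizer ((P : Subgroup G) : Set G), g * w = w * g →
      ∀ r ∈ (P : Subgroup G), g * r = r * g) :
    HasNormalPComplement p (Subgroup.centralizer ({w} : Set G)) := by
  have hPC : (P : Subgroup G) ≤ Subgroup.centralizer ({w} : Set G) := fun x hx =>
    Subgroup.mem_centralizer_singleton_iff.2 (SmithTyrer.mul_comm_of_mem hab hx hw)
  refine Transfer.hasNormalPComplement_of_normalizer_le_centralizer (P.subtype hPC) fun g hg => ?_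
  have hgN : (g : G) ∈ Subgroup.normalizer ((P : Subgroup G) : Set G) :=
    Transfer.mem_normalizer_of_conj_mem fun x hx =>
      (Subgroup.mem_normalizer_iff.1 hg ⟨x, hPC hx⟩).1 hx
  exact Subgroup.mem_centralizer_iff.2 fun x hx => Subtype.ext
    (hfree g hgN (Subgroup.mem_centralizer_singleton_iff.1 g.2) x hx).symm

section

variable {G : Type u} [Group G] [Fintype G]

theorem centralizer_factorization {p : ℕ} [Fact p.Prime] {P : Sylow p G}
    (hab : IsMulCommutative (P : Subgroup G)) {w : G} (hw : w ∈ (P : Subgroup G)) :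
    (Nat.card (Subgroup.centralizer ({w} : Set G))).factorization p =
      (Nat.card G).factorization p := by
  have hle : (P : Subgroup G) ≤ Subgroup.centralizer ({w} : Set G) := fun x hx =>
    Subgroup.mem_centralizer_singleton_iff.2 (SmithTyrer.mul_comm_of_mem hab hx hw)
  refine le_antisymm ((Nat.factorization_le_iff_dvd Nat.card_pos.ne' Nat.card_pos.ne').2
    (Subgroup.card_subgroup_dvd_card _) p) ?_
  have h1 : p ^ (Nat.card G).factorization p ∣ Nat.card (Subgroup.centralizer ({w} : Set G)) := by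
    rw [← P.card_eq_multiplicity]
    exact Subgroup.card_dvd_of_le hle
  exact ((Fact.out : p.Prime).pow_dvd_iff_le_factorization Nat.card_pos.ne').1 h1

theorem factorization_three {R : Sylow 3 G} (hR : Nat.card R = 9) :
    (Nat.card G).factorization 3 = 2 := by
  have := R.card_eq_multiplicity
  rw [show Nat.card R = 9 from hR, show (9 : ℕ) = 3 ^ 2 by norm_num] at this
  exact (Nat.pow_right_injective (le_refl 2 |>.trans (by norm_num)) this).symm

/-- A free element of a Sylow subgroup of order 9: its section is a ninth of the group. -/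
theorem nine_card_sec {R : Sylow 3 G} (hR : Nat.card R = 9)
    (hab : IsMulCommutative (R : Subgroup G)) {w : G} (hw : w ∈ (R : Subgroup G))
    (hfree : ∀ g ∈ Subgroup.normalizer ((R : Subgroup G) : Set G), g * w = w * g →
      ∀ r ∈ (R : Subgroup G), g * r = r * g) :
    9 * (sec 3 w).card = Nat.card G := by
  obtain ⟨k, hk⟩ := IsPGroup.iff_orderOf.1 R.isPGroup' ⟨w, hw⟩
  rw [card_sec ⟨k, by rwa [Subgroup.orderOf_mk] at hk⟩]
  have h := regCard_of_hasNormalPComplement (hasNormalPComplement_of_free hab hw hfree)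
  rw [centralizer_factorization hab hw, factorization_three hR] at h
  rw [← Subgroup.card_mul_index (Subgroup.centralizer ({w} : Set G)), ← h]
  ring

end

namespace VFour

variable {G : Type u} [Group G] [Fintype G] [IsSimpleGroup G] {R : Sylow 3 G} (V : VFour R)

/-- The coordinates. -/
def e (a : ZMod 3 × ZMod 3) : G := V.x ^ a.1.val * V.y ^ a.2.val

theorem e_mem (a : ZMod 3 × ZMod 3) : V.e a ∈ (R : Subgroup G) :=
  mul_mem (pow_mem V.hx _) (pow_mem V.hy _)

theorem e_zero : V.e 0 = 1 := by simp [e]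

theorem e_inj : Function.Injective V.e := V.inj

theorem e_surj {r : G} (hr : r ∈ (R : Subgroup G)) : ∃ a, V.e a = r := V.surj r hr

theorem e_add (hab : IsMulCommutative (R : Subgroup G)) (a b : ZMod 3 × ZMod 3) :
    V.e (a + b) = V.e a * V.e b := by
  simp only [e, Prod.fst_add, Prod.snd_add, zmod3_val_pow_add V.x3, zmod3_val_pow_add V.y3]
  rw [mul_assoc (V.x ^ a.1.val), ← mul_assoc (V.x ^ b.1.val),
    SmithTyrer.mul_comm_of_mem hab (pow_mem V.hx b.1.val) (pow_mem V.hy a.2.val)]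
  group

theorem conj_pow_val {g x : G} (hx : x ^ 3 = 1) (h : g * x * g⁻¹ = x⁻¹) (i : ZMod 3) :
    g * x ^ i.val * g⁻¹ = x ^ (-i).val := by
  rw [← conj_pow, h, inv_pow, inv_eq_iff_mul_eq_one, ← zmod3_val_pow_add hx, add_neg_cancel]
  simp

/-- The action of a normalising element. -/
theorem conj_e {g : G} (hg : g ∈ Subgroup.normalizer ((R : Subgroup G) : Set G)) :
    ∃ s t : ZMod 3, (s = 1 ∨ s = -1) ∧ (t = 1 ∨ t = -1) ∧
      ∀ a, g * V.e a * g⁻¹ = V.e (s * a.1, t * a.2) := by
  obtain ⟨hx, hy⟩ := V.sgn g hg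
  rcases hx with hx | hx <;> rcases hy with hy | hy
  · exact ⟨1, 1, Or.inl rfl, Or.inl rfl, fun a => by
      simp [e, SmithTyrer.conj_mul_conj, ← conj_pow, hx, hy]⟩
  · exact ⟨1, -1, Or.inl rfl, Or.inr rfl, fun a => by
      simp only [e, SmithTyrer.conj_mul_conj, conj_pow_val V.y3 hy, one_mul, neg_mul]
      rw [← conj_pow, hx]⟩
  · exact ⟨-1, 1, Or.inr rfl, Or.inl rfl, fun a => by
      simp only [e, SmithTyrer.conj_mul_conj, conj_pow_val V.x3 hx, one_mul, neg_mul]
      rw [← conj_pow, hy]⟩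
  · exact ⟨-1, -1, Or.inr rfl, Or.inr rfl, fun a => by
      simp only [e, SmithTyrer.conj_mul_conj, conj_pow_val V.x3 hx, conj_pow_val V.y3 hy, one_mul,
        neg_mul]⟩

theorem isConj_neg_fst (a : ZMod 3 × ZMod 3) : IsConj (V.e a) (V.e (-a.1, a.2)) := by
  refine isConj_iff.2 ⟨V.n₁, ?_⟩
  simp only [e, SmithTyrer.conj_mul_conj, conj_pow_val V.x3 V.hn₁.2.1]
  rw [← conj_pow, V.hn₁.2.2]

theorem isConj_neg_snd (a : ZMod 3 × ZMod 3) : IsConj (V.e a) (V.e (a.1, -a.2)) := by
  refine isConj_iff.2 ⟨V.n₂, ?_⟩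
  simp only [e, SmithTyrer.conj_mul_conj, conj_pow_val V.y3 V.hn₂.2.2]
  rw [← conj_pow, V.hn₂.2.1]

theorem isConj_imp (hab : IsMulCommutative (R : Subgroup G)) {a b : ZMod 3 × ZMod 3}
    (h : IsConj (V.e a) (V.e b)) :
    ∃ s t : ZMod 3, (s = 1 ∨ s = -1) ∧ (t = 1 ∨ t = -1) ∧ b = (s * a.1, t * a.2) := by
  obtain ⟨g, hg⟩ := isConj_iff.1 h
  obtain ⟨n, hn, he⟩ := Transfer.controlsElementFusion_normalizer_of_isMulCommutative R hab _
    (V.e_mem a) g (hg ▸ V.e_mem b)
  obtain ⟨s, t, hs, ht, hact⟩ := V.conj_e hn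
  refine ⟨s, t, hs, ht, V.e_inj ?_⟩
  rw [← hact, he, hg]

/-- Elements off both axes are free. -/
theorem free_of_ne {a : ZMod 3 × ZMod 3} (h1 : a.1 ≠ 0) (h2 : a.2 ≠ 0) :
    ∀ g ∈ Subgroup.normalizer ((R : Subgroup G) : Set G), g * V.e a = V.e a * g →
      ∀ r ∈ (R : Subgroup G), g * r = r * g := by
  intro g hg hc r hr
  obtain ⟨s, t, hs, ht, hact⟩ := V.conj_e hg
  have h3 := hact a
  rw [hc, mul_inv_cancel_right] at h3
  have h4 := V.e_inj h3
  obtain ⟨b, rfl⟩ := V.e_surj hr
  refine mul_inv_eq_iff_eq_mul.1 ?_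
  rw [hact]
  have key : ∀ a1 a2 s t : ZMod 3, a1 ≠ 0 → a2 ≠ 0 → (a1, a2) = (s * a1, t * a2) → s = 1 ∧ t = 1 := by
    decide
  obtain ⟨rfl, rfl⟩ := key a.1 a.2 s t h1 h2 h4
  simp

/-- The elements fixing `x` fix the elements `x^i y^±` only when central on `R`. -/
theorem free_in_centralizer {a : ZMod 3 × ZMod 3} (h2 : a.2 ≠ 0) :
    ∀ g ∈ Subgroup.normalizer ((R : Subgroup G) : Set G), g * V.x = V.x * g →
      g * V.e a = V.e a * g → ∀ r ∈ (R : Subgroup G), g * r = r * g := by
  intro g hg hgx hc r hr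
  obtain ⟨s, t, hs, ht, hact⟩ := V.conj_e hg
  have h3 := hact a
  rw [hc, mul_inv_cancel_right] at h3
  have h4 := V.e_inj h3
  have hxe : V.e (1, 0) = V.x := by simp [e, ZMod.val_one]
  have h5 := hact (1, 0)
  rw [hxe, hgx, mul_inv_cancel_right, ← hxe] at h5
  have h6 := V.e_inj h5
  obtain ⟨b, rfl⟩ := V.e_surj hr
  refine mul_inv_eq_iff_eq_mul.1 ?_
  rw [hact]
  have key : ∀ a1 a2 s t : ZMod 3, a2 ≠ 0 → (a1, a2) = (s * a1, t * a2) →
      ((1 : ZMod 3), (0 : ZMod 3)) = (s * 1, t * 0) → s = 1 ∧ t = 1 := by decide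
  obtain ⟨rfl, rfl⟩ := key a.1 a.2 s t h2 h4 h6
  simp

theorem card_regular_top {H : Type u} [Group H] [Finite H] [Fintype H] :
    regCard 3 (⊤ : Subgroup H) = Nat.card {c : H // IsPRegular 3 c} :=
  Nat.card_congr (Equiv.subtypeEquiv Subgroup.topEquiv.toEquiv fun c => by
    show IsPRegular 3 c ↔ IsPRegular 3 (c : H)
    simp [IsPRegular, Subgroup.orderOf_coe])

/-- The section of `x`. -/
theorem nine_card_sec_x (hR : Nat.card R = 9) :
    9 * (sec 3 V.x).card = 2 * Nat.card G := by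
  have hab := comm_of_card_nine hR
  set H := Subgroup.centralizer ({V.x} : Set G) with hH
  have hRH : (R : Subgroup G) ≤ H := fun z hz =>
    Subgroup.mem_centralizer_singleton_iff.2 (SmithTyrer.mul_comm_of_mem hab hz V.hx)
  set RH := R.subtype hRH with hRHdef
  have hmem : ∀ z : H, z ∈ (RH : Subgroup H) ↔ (z : G) ∈ (R : Subgroup G) := fun z => by
    rw [hRHdef, Sylow.coe_subtype]; rfl
  have habH : IsMulCommutative (RH : Subgroup H) := ⟨⟨fun a b => Subtype.ext (Subtype.ext
    (SmithTyrer.mul_comm_of_mem hab ((hmem _).1 a.2) ((hmem _).1 b.2)))⟩⟩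
  have hRH9 : Nat.card RH = 9 := by
    rw [show Nat.card RH = Nat.card ((R : Subgroup G).subgroupOf H) by rw [hRHdef, Sylow.coe_subtype],
      Nat.card_congr (Subgroup.subgroupOfEquivOfLe hRH).toEquiv]
    exact hR
  let eH : ZMod 3 × ZMod 3 → H := fun a => ⟨V.e a, hRH (V.e_mem a)⟩
  have hNH : ∀ n : H, n ∈ Subgroup.normalizer ((RH : Subgroup H) : Set H) →
      (n : G) ∈ Subgroup.normalizer ((R : Subgroup G) : Set G) := fun n hn =>
    Transfer.mem_normalizer_of_conj_mem fun w hw =>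
      (hmem _).1 ((Subgroup.mem_normalizer_iff.1 hn ⟨w, hRH hw⟩).1 ((hmem _).2 hw))
  have hfus : ∀ a b, IsConj (eH a) (eH b) → b = a ∨ b = (a.1, -a.2) := by
    intro a b h
    obtain ⟨g, hg⟩ := isConj_iff.1 h
    obtain ⟨n, hn, he⟩ := Transfer.controlsElementFusion_normalizer_of_isMulCommutative RH habH _
      ((hmem _).2 (V.e_mem a)) g (by rw [hg]; exact (hmem (eH b)).2 (V.e_mem b))
    obtain ⟨s, t, hs, ht, hact⟩ := V.conj_e (hNH n hn)
    have h1 : (n : G) * V.e a * (n : G)⁻¹ = V.e b := by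
      have := congrArg Subtype.val (he.trans hg)
      simpa [eH] using this
    rw [hact] at h1
    have hxe : V.e (1, 0) = V.x := by simp [e, ZMod.val_one]
    have h2 : (n : G) * V.e (1, 0) * (n : G)⁻¹ = V.e (1, 0) := by
      rw [hxe, Subgroup.mem_centralizer_singleton_iff.1 n.2, mul_inv_cancel_right]
    rw [hact] at h2
    have key : ∀ a1 a2 s t : ZMod 3, (t = 1 ∨ t = -1) →
        (s * 1, t * 0) = ((1 : ZMod 3), (0 : ZMod 3)) →
        (s * a1, t * a2) = (a1, a2) ∨ (s * a1, t * a2) = (a1, -a2) := by decide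
    rw [← V.e_inj h1]
    exact key a.1 a.2 s t ht (V.e_inj h2)
  have hn2 : V.n₂ ∈ H := by
    refine Subgroup.mem_centralizer_singleton_iff.2 ?_
    exact mul_inv_eq_iff_eq_mul.1 V.hn₂.2.1
  have hneg : ∀ a, IsConj (eH a) (eH (a.1, -a.2)) := fun a => isConj_iff.2 ⟨⟨V.n₂, hn2⟩, Subtype.ext (by
    show V.n₂ * V.e a * V.n₂⁻¹ = V.e (a.1, -a.2)
    simp only [e, SmithTyrer.conj_mul_conj, conj_pow_val V.y3 V.hn₂.2.2]
    rw [← conj_pow, V.hn₂.2.1])⟩
  set S : Finset (ZMod 3 × ZMod 3) := {(0, 0), (1, 0), (2, 0), (0, 1), (1, 1), (2, 1)} with hS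
  have hdisj : (S : Set (ZMod 3 × ZMod 3)).PairwiseDisjoint fun a => sec 3 (eH a) := by
    intro a ha b hb hne
    refine Finset.disjoint_left.2 fun g hga hgb => hne ?_
    obtain ⟨z, hz, hza⟩ := mem_sec.1 hga
    have h := hfus a b (hza.trans ((mem_sec_iff_of_isPPart hz).1 hgb).symm)
    have key : ∀ a ∈ S, ∀ b ∈ S, (b = a ∨ b = (a.1, -a.2)) → a = b := by
      rw [hS]; decide
    exact key a ha b hb h
  have hcover : S.biUnion (fun a => sec 3 (eH a)) = Finset.univ := by
    refine Finset.eq_univ_iff_forall.2 fun g => ?_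
    obtain ⟨z, hz⟩ := Blocks.exists_isPPart (p := 3) g
    obtain ⟨k, hk⟩ := Blocks.IsPPart.isPElement hz
    obtain ⟨Q, hQ⟩ := (IsPGroup.of_card (p := 3) (G := Subgroup.zpowers z) (n := k)
      (by rw [Nat.card_zpowers, hk])).exists_le_sylow
    obtain ⟨c, hc⟩ := MulAction.exists_smul_eq H Q RH
    have hcz : c * z * c⁻¹ ∈ (RH : Subgroup H) := by
      rw [← hc]; exact ⟨z, hQ (Subgroup.mem_zpowers z), rfl⟩
    obtain ⟨b, hb⟩ := V.e_surj ((hmem _).1 hcz)
    have hzb : IsConj (eH b) z := (isConj_iff.2 ⟨c, Subtype.ext hb.symm⟩ : IsConj z (eH b)).symm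
    have key : ∀ b1 b2 : ZMod 3, (b1, b2) ∈ ({(0, 0), (1, 0), (2, 0), (0, 1), (1, 1), (2, 1)} :
        Finset (ZMod 3 × ZMod 3)) ∨ (b1, -b2) ∈ ({(0, 0), (1, 0), (2, 0), (0, 1), (1, 1), (2, 1)} :
        Finset (ZMod 3 × ZMod 3)) := by decide
    rcases key b.1 b.2 with h | h
    · exact Finset.mem_biUnion.2 ⟨b, h, mem_sec.2 ⟨z, hz, hzb⟩⟩
    · exact Finset.mem_biUnion.2 ⟨(b.1, -b.2), h, mem_sec.2 ⟨z, hz, (hneg b).symm.trans hzb⟩⟩
  have htot : ∑ a ∈ S, (sec 3 (eH a)).card = Nat.card H := by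
    rw [← Finset.card_biUnion hdisj, hcover, Finset.card_univ, Nat.card_eq_fintype_card]
  have hcen : ∀ i : ZMod 3, (sec 3 (eH (i, 0))).card = regCard 3 H := by
    intro i
    have htop : Subgroup.centralizer ({eH (i, 0)} : Set H) = ⊤ := by
      refine (Subgroup.eq_top_iff' _).2 fun g => Subgroup.mem_centralizer_singleton_iff.2
        (Subtype.ext ?_)
      show (g : G) * V.e (i, 0) = V.e (i, 0) * (g : G)
      have : Commute (g : G) V.x := Subgroup.mem_centralizer_singleton_iff.1 g.2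
      simp only [e, ZMod.val_zero, pow_zero, mul_one]
      exact this.pow_right _
    rw [card_sec (by
      obtain ⟨k, hk⟩ := IsPGroup.iff_orderOf.1 RH.isPGroup' ⟨_, (hmem (eH (i, 0))).2 (V.e_mem _)⟩
      exact ⟨k, by rwa [Subgroup.orderOf_mk] at hk⟩), htop, Subgroup.index_top, one_mul,
      card_regular_top, regCard]
  have hoff : ∀ i : ZMod 3, 9 * (sec 3 (eH (i, 1))).card = Nat.card H := fun i =>
    nine_card_sec hRH9 habH ((hmem _).2 (V.e_mem _)) fun g hg hc r hr => Subtype.ext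
      (V.free_in_centralizer (a := (i, 1)) (show (1 : ZMod 3) ≠ 0 by decide) g (hNH g hg)
        (Subgroup.mem_centralizer_singleton_iff.1 g.2) (congrArg Subtype.val hc) r ((hmem _).1 hr))
  rw [hS, Finset.sum_insert (by decide), Finset.sum_insert (by decide), Finset.sum_insert (by decide),
    Finset.sum_insert (by decide), Finset.sum_insert (by decide), Finset.sum_singleton,
    hcen, hcen, hcen] at htot
  have h0 := hoff 0; have h1 := hoff 1; have h2 := hoff 2
  obtain ⟨k, hk⟩ := IsPGroup.iff_orderOf.1 R.isPGroup' ⟨V.x, V.hx⟩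
  rw [Subgroup.orderOf_mk] at hk
  rw [card_sec ⟨k, hk⟩, ← Subgroup.card_mul_index H, ← hH]
  have h3 : 9 * regCard 3 H = 2 * Nat.card H := by omega
  linear_combination H.index * h3

/-- The function `3` on the sections of `x` and `x y`. -/
noncomputable def f : G → ℂ := fun g => if g ∈ sec 3 V.x ∪ sec 3 (V.e (1, 1)) then 3 else 0

theorem e_one_zero : V.e (1, 0) = V.x := by simp [e, ZMod.val_one]

theorem f_of_part (hab : IsMulCommutative (R : Subgroup G)) {g z : G} (hz : IsPPart 3 g z)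
    {a : ZMod 3 × ZMod 3} (ha : IsConj z (V.e a)) : V.f g = if a.1 = 0 then 0 else 3 := by
  have hiff : g ∈ sec 3 V.x ∪ sec 3 (V.e (1, 1)) ↔ a.1 ≠ 0 := by
    rw [Finset.mem_union, mem_sec_iff_of_isPPart hz, mem_sec_iff_of_isPPart hz, ← V.e_one_zero]
    constructor
    · intro h
      have key : ∀ a1 a2 s t : ZMod 3, (s = 1 ∨ s = -1) → (t = 1 ∨ t = -1) →
          ((a1, a2) = (s * 1, t * 0) ∨ (a1, a2) = (s * 1, t * 1)) → a1 ≠ 0 := by decide
      rcases h with h | h <;> obtain ⟨s, t, hs, ht, he⟩ := V.isConj_imp hab (h.trans ha)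
      · exact key a.1 a.2 s t hs ht (Or.inl he)
      · exact key a.1 a.2 s t hs ht (Or.inr he)
    · intro h1
      have key : ∀ a1 a2 : ZMod 3, a1 ≠ 0 →
          (a1, a2) = (1, 0) ∨ (a1, a2) = (1, 1) ∨ (a1, a2) = (1, -1) ∨
          (a1, a2) = (-1, 0) ∨ (a1, a2) = (-1, 1) ∨ (a1, a2) = (-1, -1) := by decide
      rcases key a.1 a.2 h1 with h | h | h | h | h | h <;> rw [show a = _ from h] at ha
      · exact Or.inl ha.symm
      · exact Or.inr ha.symm
      · exact Or.inr ((V.isConj_neg_snd (1, 1)).trans ha.symm)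
      · exact Or.inl ((V.isConj_neg_fst (1, 0)).trans ha.symm)
      · exact Or.inr ((V.isConj_neg_fst (1, 1)).trans ha.symm)
      · exact Or.inr (((V.isConj_neg_fst (1, 1)).trans (V.isConj_neg_snd (-1, 1))).trans ha.symm)
  simp only [f]
  by_cases h : a.1 = 0
  · rw [if_pos h, if_neg fun hm => hiff.1 hm h]
  · rw [if_neg h, if_pos (hiff.2 h)]

theorem f_classFun : IsClassFunction G V.f := by
  intro g c
  have h : ∀ (z g : G) (c : G), g ∈ sec 3 z → c * g * c⁻¹ ∈ sec 3 z := by
    intro z g c hg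
    obtain ⟨w, hw, hzw⟩ := mem_sec.1 hg
    exact mem_sec.2 ⟨c * w * c⁻¹, Blocks.IsPPart.conj hw c, hzw.trans (isConj_iff.2 ⟨c, rfl⟩)⟩
  have hiff : c * g * c⁻¹ ∈ sec 3 V.x ∪ sec 3 (V.e (1, 1)) ↔ g ∈ sec 3 V.x ∪ sec 3 (V.e (1, 1)) := by
    constructor
    · intro hm
      rcases Finset.mem_union.1 hm with hm | hm <;>
        have := h _ _ c⁻¹ hm <;> rw [show c⁻¹ * (c * g * c⁻¹) * c⁻¹⁻¹ = g by group] at this
      · exact Finset.mem_union_left _ this
      · exact Finset.mem_union_right _ this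
    · intro hm
      rcases Finset.mem_union.1 hm with hm | hm
      · exact Finset.mem_union_left _ (h _ _ c hm)
      · exact Finset.mem_union_right _ (h _ _ c hm)
  simp only [f, hiff]

variable {M : Ideal AlgInt} [M.IsMaximal] [CharP (AlgInt ⧸ M) 3]

theorem f_isGen (hab : IsMulCommutative (R : Subgroup G)) : IsGeneralizedCharacter G V.f := by
  refine Char.isGeneralizedCharacter_of_elementary V.f_classFun fun E q hq hH => ?_
  obtain ⟨R', S', hE, rfl⟩ := Star.exists_isElem_decomp (p := 3) hq hH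
  obtain ⟨Q, hQ⟩ := hE.pR.exists_le_sylow
  obtain ⟨g0, hg0⟩ := MulAction.exists_smul_eq G Q R
  choose rp hrp sp hsp hrs using fun x : (R' ⊔ S' : Subgroup G) => hE.mem_sup.1 x.2
  have hmul : ∀ x y, rp (x * y) = rp x * rp y := by
    intro x y
    refine (hE.eq_of_mul_eq (hrp (x * y)) (hsp (x * y)) (mul_mem (hrp x) (hrp y))
      (mul_mem (hsp x) (hsp y)) ?_).1
    rw [hrs, Subgroup.coe_mul, ← hrs x, ← hrs y]
    calc rp x * sp x * (rp y * sp y) = rp x * (sp x * rp y) * sp y := by group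
      _ = rp x * (rp y * sp x) * sp y := by rw [(hE.commute (hrp y) (hsp x)).eq]
      _ = _ := by group
  have hone : rp 1 = 1 :=
    (hE.eq_of_mul_eq (hrp 1) (hsp 1) (one_mem R') (one_mem S') (by rw [hrs, one_mul]; rfl)).1
  have hgR : ∀ r ∈ R', g0 * r * g0⁻¹ ∈ (R : Subgroup G) := fun r hr => by
    rw [← hg0]; exact ⟨r, hQ hr, rfl⟩
  let π : (R' ⊔ S' : Subgroup G) →* (R : Subgroup G) :=
    { toFun := fun x => ⟨g0 * rp x * g0⁻¹, hgR _ (hrp x)⟩
      map_one' := Subtype.ext (by show g0 * rp 1 * g0⁻¹ = 1; rw [hone, mul_one, mul_inv_cancel])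
      map_mul' := fun x y => Subtype.ext (by
        show g0 * rp (x * y) * g0⁻¹ = g0 * rp x * g0⁻¹ * (g0 * rp y * g0⁻¹)
        rw [hmul]; group) }
  obtain ⟨ω, hω⟩ : ∃ ω : ℂ, IsPrimitiveRoot ω 3 := ⟨_, Complex.isPrimitiveRoot_exp 3 (by norm_num)⟩
  have hco : ∀ r : (R : Subgroup G), ∃ a, V.e a = (r : G) := fun r => V.e_surj r.2
  choose co hco using hco
  have hco_mul : ∀ r s, co (r * s) = co r + co s := fun r s => V.e_inj (by
    rw [hco, V.e_add hab, hco, hco, Subgroup.coe_mul])
  have hω3 : ω ^ 3 = 1 := hω.pow_eq_one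
  let lam : (R : Subgroup G) →* ℂ :=
    { toFun := fun r => ω ^ (co r).1.val
      map_one' := by
        have : co 1 = 0 := V.e_inj (by rw [hco, V.e_zero, Subgroup.coe_one])
        rw [this]; simp
      map_mul' := fun r s => by
        rw [hco_mul, ← pow_add, Prod.fst_add, ZMod.val_add]
        conv_rhs => rw [← Nat.mod_add_div ((co r).1.val + (co s).1.val) 3, pow_add, pow_mul, hω3,
          one_pow, mul_one] }
  have hF : IsGeneralizedCharacter (R : Subgroup G) fun r => 2 - lam r - lam r * lam r := by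
    have h2 : IsGeneralizedCharacter (R : Subgroup G) fun _ => ((2 : ℕ) : ℂ) :=
      Char.IsCharacter.isGeneralized (Char.isCharacter_natCast 2)
    have hl : IsCharacter (R : Subgroup G) ⇑lam :=
      Char.IsIrrCharacter.isCharacter (Char.isIrrCharacter_of_monoidHom lam)
    have := Char.IsGeneralizedCharacter.sub
      (Char.IsGeneralizedCharacter.sub h2 (Char.IsCharacter.isGeneralized hl))
      (Char.IsCharacter.isGeneralized (Char.IsCharacter.mul hl hl))
    simpa [Pi.sub_def, Pi.mul_def] using this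
  have hcomp := Char.IsGeneralizedCharacter.comp hF π
  convert hcomp using 1
  funext x
  have hg : IsPPart 3 (x : G) (rp x) := hrs x ▸ hE.isPPart (hrp x) (hsp x)
  have hc : IsConj (rp x) (V.e (co (π x))) := by
    rw [hco]; exact isConj_iff.2 ⟨g0, rfl⟩
  rw [V.f_of_part hab hg hc]
  show _ = 2 - ω ^ (co (π x)).1.val - ω ^ (co (π x)).1.val * ω ^ (co (π x)).1.val
  have hsum : 1 + ω + ω ^ 2 = 0 := by
    have := hω.geom_sum_eq_zero (by norm_num)
    simpa [Finset.sum_range_succ] using this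
  generalize (co (π x)).1 = i
  have hcases : ∀ i : ZMod 3, i = 0 ∨ i = 1 ∨ i = 2 := by decide
  rcases hcases i with rfl | rfl | rfl
  · rw [if_pos rfl, show ((0 : ZMod 3)).val = 0 from rfl]
    norm_num
  · rw [if_neg (show (1 : ZMod 3) ≠ 0 by decide), show ((1 : ZMod 3)).val = 1 from rfl]
    linear_combination hsum
  · rw [if_neg (show (2 : ZMod 3) ≠ 0 by decide), show ((2 : ZMod 3)).val = 2 from rfl]
    linear_combination hsum + ω * hω3

include V in
/-- Two consecutive degrees prime to 3. -/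
theorem exists_consecutive (hna : ∃ a b : G, a * b ≠ b * a) (hR : Nat.card R = 9)
    (h3M : (3 : AlgInt) ∈ M) (hD : IsDefectGroup 3 M (principalBlock M G) (R : Subgroup G)) :
    ∃ χ₁ χ₂ : IrrCharacter G, 1 < Char.degree χ₁ ∧ Char.degree χ₂ = Char.degree χ₁ + 1 ∧
      ¬ 3 ∣ Char.degree χ₁ ∧ ¬ 3 ∣ Char.degree χ₂ := by
  have hpM : ((3 : ℕ) : AlgInt) ∈ M := by exact_mod_cast h3M
  have hab := comm_of_card_nine hR
  have hxm : V.x ≠ V.e (1, 1) := fun h => by
    rw [← V.e_one_zero] at h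
    exact absurd (V.e_inj h) (by decide)
  have hdis : Disjoint (sec 3 V.x) (sec 3 (V.e (1, 1))) := by
    refine Finset.disjoint_left.2 fun g h1 h2 => ?_
    obtain ⟨z, hz, hc⟩ := mem_sec.1 h1
    have hc' := hc.trans ((mem_sec_iff_of_isPPart hz).1 h2).symm
    rw [← V.e_one_zero] at hc'
    obtain ⟨s, t, -, -, he⟩ := V.isConj_imp hab hc'
    have key : ∀ s t : ZMod 3, ((1 : ZMod 3), (1 : ZMod 3)) ≠ (s * 1, t * 0) := by decide
    exact key s t he
  have hm9 : 9 * (sec 3 (V.e (1, 1))).card = Nat.card G := nine_card_sec hR hab (V.e_mem _)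
    (V.free_of_ne (a := (1, 1)) (show (1 : ZMod 3) ≠ 0 by decide) (show (1 : ZMod 3) ≠ 0 by decide))
  have hU : 3 * (sec 3 V.x ∪ sec 3 (V.e (1, 1))).card = Nat.card G := by
    rw [Finset.card_union_of_disjoint hdis]
    have := V.nine_card_sec_x hR
    omega
  have hfi : classInner V.f (Char.trivialChar G).1 = 1 := by
    rw [classInner]
    simp only [f, Char.trivialChar_apply, map_one, mul_one]
    rw [Finset.sum_ite_mem, Finset.univ_inter, Finset.sum_const, nsmul_eq_mul, ← hU]
    have : ((sec 3 V.x ∪ sec 3 (V.e (1, 1))).card : ℂ) ≠ 0 := by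
      refine Nat.cast_ne_zero.2 fun h0 => (Nat.card_pos (α := G)).ne' ?_
      omega
    push_cast
    field_simp
  have hff : classInner V.f V.f = 3 := by
    rw [classInner]
    simp only [f, apply_ite (starRingEnd ℂ), map_zero, ite_mul, mul_ite, mul_zero, zero_mul]
    rw [Finset.sum_congr rfl fun g _ => show _ = (if g ∈ sec 3 V.x ∪ sec 3 (V.e (1, 1)) then
      (9 : ℂ) else 0) by split_ifs <;> norm_num [Complex.conj_ofNat]]
    rw [Finset.sum_ite_mem, Finset.univ_inter, Finset.sum_const, nsmul_eq_mul, ← hU]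
    have : ((sec 3 V.x ∪ sec 3 (V.e (1, 1))).card : ℂ) ≠ 0 := by
      refine Nat.cast_ne_zero.2 fun h0 => (Nat.card_pos (α := G)).ne' ?_
      omega
    push_cast
    field_simp
    norm_num
  have hf1 : V.f 1 = 0 := by
    rw [V.f_of_part hab (z := 1) (a := 0)
      ⟨1, one_mul 1, Commute.one_left 1, ⟨0, by simp⟩, by simp⟩ (by rw [V.e_zero])]
    simp
  obtain ⟨c, hc, hci⟩ := Char.IsGeneralizedCharacter.exists_decomp (V.f_isGen hab)
  have hsq := Char.IsGeneralizedCharacter.classInner_self_eq_sum hc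
  rw [hff] at hsq
  have hsq' : ∑ ψ, c ψ ^ 2 = 3 := by exact_mod_cast hsq.symm
  set T := Char.trivialChar G with hT
  have hcT : c T = 1 := by
    have := hci T
    rw [hfi] at this
    exact_mod_cast this.symm
  have hTd : Char.degree T = 1 := by
    have := Char.apply_one_eq_degree T
    rw [hT, Char.trivialChar_apply] at this
    exact_mod_cast this.symm
  rw [← Finset.add_sum_erase _ _ (Finset.mem_univ T), hcT] at hsq'
  set W := (Finset.univ.erase T).filter fun ψ => c ψ ≠ 0 with hW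
  have hW2 : ∑ ψ ∈ W, c ψ ^ 2 = 2 := by
    rw [hW, Finset.sum_filter_of_ne (p := fun ψ => c ψ ≠ 0) (fun ψ _ h h0 => h (by rw [h0]; rfl))]
    linarith
  have hdeg : ∑ ψ ∈ W, c ψ * (Char.degree ψ : ℤ) = -1 := by
    have h1 := congrFun hc 1
    simp only [Finset.sum_apply, Pi.smul_apply, smul_eq_mul, hf1, Char.apply_one_eq_degree] at h1
    have h2 : ∑ ψ, c ψ * (Char.degree ψ : ℤ) = 0 := by exact_mod_cast h1.symm
    rw [← Finset.add_sum_erase _ _ (Finset.mem_univ T), hcT, hTd] at h2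
    rw [hW, Finset.sum_filter_of_ne (p := fun ψ => c ψ ≠ 0) (fun ψ _ h h0 => h (by rw [h0, zero_mul]))]
    push_cast at h2 ⊢
    linarith
  have hone : ∀ ψ ∈ W, 1 ≤ c ψ ^ 2 := fun ψ hψ => by
    have := (Finset.mem_filter.1 hψ).2
    nlinarith [sq_nonneg (c ψ), Int.one_le_abs this, sq_abs (c ψ)]
  have hWc : W.card = 2 := by
    have h1 := Finset.card_nsmul_le_sum W (fun ψ => c ψ ^ 2) 1 hone
    rw [hW2, nsmul_eq_mul, mul_one] at h1
    have h1' : W.card ≤ 2 := by exact_mod_cast h1
    rcases (show W.card = 0 ∨ W.card = 1 ∨ W.card = 2 by omega) with h | h | h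
    · rw [Finset.card_eq_zero.1 h, Finset.sum_empty] at hW2; omega
    · obtain ⟨ψ, hψ⟩ := Finset.card_eq_one.1 h
      rw [hψ, Finset.sum_singleton] at hW2
      have h5 : c ψ ≤ 1 := by nlinarith
      have h6 : -1 ≤ c ψ := by nlinarith
      interval_cases h7 : c ψ <;> norm_num at hW2
    · exact h
  obtain ⟨χ₁, χ₂, hne, hWe⟩ := Finset.card_eq_two.1 hWc
  rw [hWe, Finset.sum_pair hne] at hW2 hdeg
  have hmem₁ : χ₁ ∈ W := by rw [hWe]; simp
  have hmem₂ : χ₂ ∈ W := by rw [hWe]; simp
  have hunit : ∀ ψ ∈ W, c ψ ^ 2 ≤ 1 → c ψ = 1 ∨ c ψ = -1 := fun ψ hψ h => by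
    have h5 : c ψ ≤ 1 := by nlinarith
    have h6 : -1 ≤ c ψ := by nlinarith
    have := (Finset.mem_filter.1 hψ).2
    omega
  have hbig : ∀ ψ ∈ W, 1 < Char.degree ψ := fun ψ hψ =>
    one_lt_degree hna (Finset.mem_erase.1 (Finset.mem_filter.1 hψ).1).1
  -- members of the principal block
  have hblock : ∀ ψ ∈ W, ψ ∈ principalBlock M G := by
    intro ψ hψ
    by_contra hnb
    apply (Finset.mem_filter.1 hψ).2
    have hBb := BrauerPairs.isPBlock_blockOf (M := M) ψ
    have htriv : Char.trivialChar G ∉ blockOf M ψ.1 := fun h => hnb (by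
      rw [← Blocks.block_eq_of_mem hBb (Blocks.isPBlock_principalBlock hpM) h
        Blocks.trivial_mem_principalBlock]
      exact BrauerPairs.mem_blockOf_self ψ)
    have hzero : blockPart (blockOf M ψ.1) V.f = 0 := by
      funext w
      obtain ⟨z, hz⟩ := Blocks.exists_isPPart (p := 3) w
      set k : ℂ := V.f w with hk
      have hconst : ∀ v z' : G, IsPPart 3 v z' → IsConj z z' →
          (V.f - (fun _ => k : G → ℂ)) v = 0 := by
        intro v z' hv hzz
        have e1 : ∀ u : G, IsConj u z ↔ IsConj u z' := fun u =>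
          ⟨fun h => h.trans hzz, fun h => h.trans hzz.symm⟩
        simp only [Pi.sub_apply, hk, f, Finset.mem_union, mem_sec_iff_of_isPPart hz,
          mem_sec_iff_of_isPPart hv, e1, sub_self]
      have h1 := Blocks.blockPart_eq_zero_of_section hpM hconst hBb hz (IsConj.refl z)
      rw [Star.blockPart_apply] at h1
      simp only [Char.classInner_sub_left, sub_mul, Finset.sum_sub_distrib] at h1
      rw [Star.blockPart_apply, Pi.zero_apply]
      rw [sub_eq_zero] at h1
      rw [h1]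
      refine Finset.sum_eq_zero fun η hη => ?_
      rw [show (fun _ : G => k) = k • (Char.trivialChar G).1 from funext fun _ => (mul_one k).symm,
        Char.classInner_smul_left, Char.classInner_irr, if_neg fun e => htriv (by
          rw [e]; exact (Finset.mem_filter.1 hη).2), mul_zero, zero_mul]
    have h2 := Star.classInner_blockPart (blockOf M ψ.1) V.f ψ
    rw [hzero, Char.classInner_zero_left, if_pos (BrauerPairs.mem_blockOf_self ψ), hci] at h2
    exact_mod_cast h2.symm
  -- degrees prime to 3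
  have hnot3 : ∀ ψ ∈ W, ¬ 3 ∣ Char.degree ψ := by
    intro ψ hψ hd3
    set m := V.e (1, 1) with hm
    have hmR := V.e_mem (1, 1)
    have hmk : ∃ k, orderOf m = 3 ^ k := by
      obtain ⟨k, hk⟩ := IsPGroup.iff_orderOf.1 R.isPGroup' ⟨m, hmR⟩
      exact ⟨k, by rwa [Subgroup.orderOf_mk] at hk⟩
    have hnc := hasNormalPComplement_of_free hab hmR (V.free_of_ne (a := (1, 1))
      (show (1 : ZMod 3) ≠ 0 by decide) (show (1 : ZMod 3) ≠ 0 by decide))
    have hne0 : ψ.1 m ≠ 0 := by
      obtain ⟨s, hs, hsr, hs0⟩ := exists_section_ne_zero hpM (Blocks.isPBlock_principalBlock hpM)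
        hD hmR (fun w hw => SmithTyrer.mul_comm_of_mem hab hw hmR) (hblock ψ hψ)
      rwa [apply_mul_regular hpM hmk hnc (hblock ψ hψ) hs hsr] at hs0
    have hinv : V.e (-1, -1) = m⁻¹ := by
      refine eq_inv_of_mul_eq_one_left ?_
      rw [hm, ← V.e_add hab, show ((-1 : ZMod 3), (-1 : ZMod 3)) + (1, 1) = 0 by decide, V.e_zero]
    have hm3 : orderOf m = 3 := by
      refine orderOf_eq_prime ?_ ?_
      · rw [pow_succ, pow_two, hm, ← V.e_add hab, ← V.e_add hab,
          show ((1 : ZMod 3), (1 : ZMod 3)) + (1, 1) + (1, 1) = 0 by decide, V.e_zero]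
      · intro h
        rw [hm, ← V.e_zero] at h
        exact absurd (V.e_inj h) (by decide)
    have hval : ψ.1 m⁻¹ = ψ.1 m := by
      refine Char.IsClassFunction.apply_of_isConj (Blocks.irr_classFun ψ) ?_
      rw [← hinv]
      exact ((V.isConj_neg_fst (1, 1)).trans (V.isConj_neg_snd (-1, 1))).symm
    obtain ⟨n0, hn0⟩ := Char.IsCharacter.exists_nat_classInner
      (Char.IsCharacter.restrict (Char.irr_isCharacter ψ) (Subgroup.zpowers m))
      (Char.irr_isCharacter (Char.trivialChar (Subgroup.zpowers m)))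
    have hsum : (Char.degree ψ : ℂ) + 2 * ψ.1 m = 3 * n0 := by
      rw [classInner, Nat.card_zpowers, hm3] at hn0
      simp only [Char.trivialChar_apply, map_one, mul_one] at hn0
      have hz3 : (Finset.univ.map ⟨fun w : Subgroup.zpowers m => (w : G), Subtype.val_injective⟩) =
          {1, m, m⁻¹} := by
        refine (Finset.eq_of_subset_of_card_le (fun w hw => ?_) ?_).symm
        · simp only [Finset.mem_insert, Finset.mem_singleton] at hw
          simp only [Finset.mem_map, Finset.mem_univ, true_and, Function.Embedding.coeFn_mk]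
          rcases hw with rfl | rfl | rfl
          · exact ⟨1, rfl⟩
          · exact ⟨⟨m, Subgroup.mem_zpowers m⟩, rfl⟩
          · exact ⟨⟨m⁻¹, inv_mem (Subgroup.mem_zpowers m)⟩, rfl⟩
        · rw [Finset.card_map, Finset.card_univ, ← Nat.card_eq_fintype_card, Nat.card_zpowers, hm3]
          have h1 : m ≠ 1 := fun h => by rw [h, orderOf_one] at hm3; omega
          have h2 : m ≠ m⁻¹ := fun h => by
            rw [← hinv, hm] at h
            exact absurd (V.e_inj h) (by decide)
          rw [Finset.card_insert_of_notMem (by simp [h1, h1.symm]), Finset.card_pair h2]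
      have h4 : ∑ w : Subgroup.zpowers m, ψ.1 w = ψ.1 1 + ψ.1 m + ψ.1 m⁻¹ := by
        have hmap := Finset.sum_map Finset.univ
          (⟨fun w : Subgroup.zpowers m => (w : G), Subtype.val_injective⟩ : _ ↪ G) ψ.1
        simp only [Function.Embedding.coeFn_mk] at hmap
        rw [← hmap, hz3, Finset.sum_insert ?_, Finset.sum_pair ?_]
        · ring
        · intro h
          rw [← hinv, hm] at h
          exact absurd (V.e_inj h) (by decide)
        · simp only [Finset.mem_insert, Finset.mem_singleton, not_or]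
          exact ⟨fun h => by rw [← h, orderOf_one] at hm3; omega,
            fun h => by rw [inv_eq_one.1 h.symm, orderOf_one] at hm3; omega⟩
      rw [h4, hval, Char.apply_one_eq_degree, inv_mul_eq_iff_eq_mul₀ (by norm_num)] at hn0
      push_cast at hn0
      linear_combination hn0
    obtain ⟨k, hk⟩ := Char.exists_int_of_isIntegral_mul
      (CharInt.isIntegral_char (Char.irr_isCharacter ψ) m)
      (c := 2) (N := 3 * n0 - Char.degree ψ) (by norm_num) (by push_cast; linear_combination hsum)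
    have hk2 : (Char.degree ψ : ℤ) + 2 * k = 3 * n0 := by
      rw [hk] at hsum; exact_mod_cast hsum
    have hk0 : k ≠ 0 := fun h => hne0 (by rw [hk, h, Int.cast_zero])
    have hk3 : (3 : ℤ) ∣ k := by
      have : (3 : ℤ) ∣ (Char.degree ψ : ℤ) := by exact_mod_cast hd3
      omega
    have hcol := sum_principal_sq hpM hmk hnc (M := M) (G := G)
    rw [centralizer_factorization hab hmR, factorization_three hR] at hcol
    have hψT : ψ ≠ T := (Finset.mem_erase.1 (Finset.mem_filter.1 hψ).1).1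
    have hle : (1 : ℝ) + Complex.normSq (ψ.1 m) ≤ 9 := by
      have h2 : ((∑ χ ∈ Finset.univ.filter (· ∈ principalBlock M G),
          Complex.normSq (χ.1 m) : ℝ) : ℂ) = ((9 : ℝ) : ℂ) := by
        push_cast
        rw [Finset.sum_congr rfl fun χ _ => (Complex.mul_conj (χ.1 m)).symm, hcol]
        norm_num
      rw [← Complex.ofReal_inj.1 h2]
      refine le_of_eq_of_le ?_ (Finset.sum_le_sum_of_subset_of_nonneg (s := {T, ψ}) ?_
        fun χ _ _ => Complex.normSq_nonneg _)
      · rw [Finset.sum_pair hψT.symm, hT, Char.trivialChar_apply, map_one]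
      · intro χ hχ
        simp only [Finset.mem_insert, Finset.mem_singleton] at hχ
        rcases hχ with rfl | rfl
        · exact Finset.mem_filter.2 ⟨Finset.mem_univ _, Blocks.trivial_mem_principalBlock⟩
        · exact Finset.mem_filter.2 ⟨Finset.mem_univ _, hblock _ hψ⟩
    rw [hk, Complex.normSq_intCast] at hle
    have hk9 : k * k ≤ 8 := by
      have : (1 : ℝ) + ((k * k : ℤ) : ℝ) ≤ 9 := by push_cast; linarith
      have : ((k * k : ℤ) : ℝ) ≤ ((8 : ℤ) : ℝ) := by push_cast at this ⊢; linarith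
      exact_mod_cast this
    obtain ⟨j, rfl⟩ := hk3
    have : 1 ≤ j * j := by
      have : j ≠ 0 := fun h => hk0 (by rw [h, mul_zero])
      nlinarith [Int.one_le_abs this, sq_abs j]
    nlinarith
  have hu1 := hunit χ₁ hmem₁ (by linarith [hone χ₂ hmem₂])
  have hu2 := hunit χ₂ hmem₂ (by linarith [hone χ₁ hmem₁])
  have hb1 := hbig χ₁ hmem₁
  have hb2 := hbig χ₂ hmem₂
  rcases hu1 with h1 | h1 <;> rcases hu2 with h2 | h2 <;> rw [h1, h2] at hdeg
  · omega
  · exact ⟨χ₁, χ₂, hb1, by omega, hnot3 _ hmem₁, hnot3 _ hmem₂⟩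
  · exact ⟨χ₂, χ₁, hb2, by omega, hnot3 _ hmem₂, hnot3 _ hmem₁⟩
  · omega

end VFour

end Cfsg.Agent.NineTwoQ
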